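import Cfsg.Agent.Lib.Transfer.PairProducts.Cyclic
import Cfsg.Agent.Lib.Transfer.PSolvable
import Cfsg.Agent.Lib.Transfer.Frobenius
import Cfsg.Agent.Lib.LocalEven.HSubgroups
import Cfsg.Agent.Lib.Modular.FongSwan.TwistGroup

/-!
A group with cyclic Sylow `p`-subgroups is `p`-soluble as soon as every two elements of order `p`
generate a `p`-soluble subgroup.
-/

set_option autoImplicit false

noncomputable section

namespace CfsgLib.Transfer.PairProducts

open Cfsg Subgroup

universe u

/-- A series with one intermediate term. -/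
theorem isPSolvable_of_two_steps {G : Type*} [Group G] {p : ℕ} (N : Subgroup G) (hN : N.Normal)
    (h1 : (∃ m : ℕ, Nat.card N = p ^ m) ∨ (Nat.card N).Coprime p)
    (h2 : (∃ m : ℕ, N.index = p ^ m) ∨ N.index.Coprime p) : IsPSolvable p G := by
  refine ⟨2, ![⊥, N, ⊤], rfl, rfl, Fin.monotone_iff_le_succ.2 fun i => ?_, fun i => ?_, fun i => ?_⟩
  · fin_cases i
    · exact bot_le
    · exact le_top
  · fin_cases i
    · exact (inferInstance : (⊥ : Subgroup G).Normal)
    · exact hN
    · exact (inferInstance : (⊤ : Subgroup G).Normal)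
  · fin_cases i
    · show (∃ m : ℕ, (⊥ : Subgroup G).relIndex N = p ^ m) ∨ ((⊥ : Subgroup G).relIndex N).Coprime p
      rw [relIndex_bot_left]
      exact h1
    · show (∃ m : ℕ, N.relIndex ⊤ = p ^ m) ∨ (N.relIndex ⊤).Coprime p
      rw [relIndex_top_right]
      exact h2

theorem isPSolvable_of_isPGroup' {G : Type*} [Group G] [Finite G] {p : ℕ} [Fact p.Prime]
    (h : IsPGroup p G) : IsPSolvable p G := by
  obtain ⟨k, hk⟩ := h.exists_card_eq
  exact isPSolvable_of_two_steps ⊤ inferInstance (Or.inl ⟨k, by rw [card_top, hk]⟩)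
    (Or.inl ⟨0, by rw [index_top, pow_zero]⟩)

theorem isPSolvable_of_not_dvd_card {G : Type*} [Group G] {p : ℕ} [Fact p.Prime]
    (h : ¬ p ∣ Nat.card G) : IsPSolvable p G :=
  isPSolvable_of_two_steps ⊤ inferInstance
    (Or.inr (by rw [card_top]; exact ((Fact.out : p.Prime).coprime_iff_not_dvd.2 h).symm))
    (Or.inl ⟨0, by rw [index_top, pow_zero]⟩)

/-- If one Sylow subgroup is cyclic, so is every `p`-subgroup. -/
theorem isCyclic_of_sylow {G : Type*} [Group G] [Finite G] {p : ℕ} [Fact p.Prime] (P : Sylow p G)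
    (hP : IsCyclic ↥(P : Subgroup G)) (H : Subgroup G) (hH : IsPGroup p H) : IsCyclic ↥H := by
  obtain ⟨g, hg⟩ := CfsgLib.Transfer.exists_conj_mem_sylow P hH
  haveI := hP
  refine isCyclic_of_injective (f := ({ toFun := fun z => ⟨g * z * g⁻¹, hg z z.2⟩
                                        map_one' := Subtype.ext (by simp)
                                        map_mul' := fun a b => Subtype.ext (by simp [mul_assoc]) } :
    ↥H →* ↥(P : Subgroup G))) fun a b h => ?_
  exact Subtype.ext (mul_left_cancel (mul_right_cancel (congrArg Subtype.val h)))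

/-- In a cyclic group the elements of order dividing `p` are the powers of one of order `p`. -/
theorem mem_zpowers_of_cyclic {A : Type*} [Group A] [Finite A] [IsCyclic A] {p : ℕ} [Fact p.Prime]
    {x c : A} (hx : orderOf x = p) (hc : c ^ p = 1) : c ∈ zpowers x := by
  classical
  let _ := Fintype.ofFinite A
  have hsub : (Finset.range p).image (fun i => x ^ i) ⊆ Finset.univ.filter fun a : A => a ^ p = 1 := by
    intro a ha
    obtain ⟨i, -, rfl⟩ := Finset.mem_image.1 ha
    rw [Finset.mem_filter, ← pow_mul, mul_comm, pow_mul, ← hx, pow_orderOf_eq_one, one_pow]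
    exact ⟨Finset.mem_univ _, rfl⟩
  have hcard : ((Finset.range p).image fun i => x ^ i).card = p := by
    rw [Finset.card_image_of_injOn, Finset.card_range]
    intro a ha b hb hab
    exact pow_injOn_Iio_orderOf (hx.symm ▸ Finset.mem_range.1 ha) (hx.symm ▸ Finset.mem_range.1 hb) hab
  have heq := Finset.eq_of_subset_of_card_le hsub
    ((IsCyclic.card_pow_eq_one_le (Fact.out : p.Prime).pos).trans hcard.ge)
  obtain ⟨i, -, hi⟩ := Finset.mem_image.1 (heq ▸ Finset.mem_filter.2 ⟨Finset.mem_univ c, hc⟩ :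
    c ∈ (Finset.range p).image fun i => x ^ i)
  exact hi ▸ pow_mem (mem_zpowers x) i

/-- Burnside: cyclic Sylow subgroups and a central element of order `p`. -/
theorem hasNormalPComplement_of_cyclic_central {G : Type*} [Group G] [Finite G] {p : ℕ}
    [Fact p.Prime] (hC : ∀ H : Subgroup G, IsPGroup p H → IsCyclic ↥H) {x : G} (hx : orderOf x = p)
    (hcen : ∀ g : G, g * x = x * g) : HasNormalPComplement p G := by
  have hpp : p.Prime := Fact.out
  obtain ⟨P, hxP'⟩ := (IsPGroup.of_card (G := ↥(zpowers x)) (n := 1)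
    (by rw [Nat.card_zpowers, hx, pow_one])).exists_le_sylow
  have hxP : x ∈ (P : Subgroup G) := hxP' (mem_zpowers x)
  haveI := hC _ P.isPGroup'
  refine CfsgLib.Transfer.hasNormalPComplement_of_abelian_sylow P IsCyclic.isMulCommutative
    fun g hg hco => ?_
  obtain ⟨y, hy⟩ := (Subgroup.isCyclic_iff_exists_zpowers_eq_top (P : Subgroup G)).1 inferInstance
  obtain ⟨n, hn⟩ := IsPGroup.iff_card.1 P.isPGroup'
  have hyn : orderOf y = p ^ n := by rw [← Nat.card_zpowers, hy, hn]
  obtain ⟨k, hk⟩ := mem_powers_iff_mem_zpowers.2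
    (hy.symm ▸ (mem_normalizer_iff.1 hg y).1 (hy ▸ mem_zpowers y) : g * y * g⁻¹ ∈ zpowers y)
  change y ^ k = g * y * g⁻¹ at hk
  obtain ⟨i, hi⟩ := mem_powers_iff_mem_zpowers.2 (hy.symm ▸ hxP : x ∈ zpowers y)
  change y ^ i = x at hi
  have hgx : x ^ k = x := by
    rw [← hi, ← pow_mul, mul_comm, pow_mul, hk, conj_pow, hi, hcen g, mul_inv_cancel_right]
  have hpk : (p : ℤ) ∣ (k : ℤ) - 1 := by
    have h1 : x ^ k = x ^ 1 := by rw [hgx, pow_one]
    rw [pow_eq_pow_iff_modEq, hx] at h1
    have h2 := Nat.modEq_iff_dvd.1 h1.symm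
    exact_mod_cast h2
  have hu1 : (k : ZMod (p ^ n)) ^ (p ^ n) = 1 := by
    have h1 := dvd_sub_pow_of_dvd_sub hpk n
    have h2 : ((p ^ n : ℕ) : ℤ) ∣ (k : ℤ) ^ (p ^ n) - 1 ^ (p ^ n) := by
      push_cast
      exact (pow_dvd_pow _ (Nat.le_succ n)).trans h1
    rw [one_pow, ← ZMod.intCast_zmod_eq_zero_iff_dvd] at h2
    push_cast at h2
    exact sub_eq_zero.1 h2
  have hiter : ∀ j : ℕ, g ^ j * y * (g ^ j)⁻¹ = y ^ (k ^ j) := by
    intro j
    induction j with
    | zero => simp
    | succ j ih =>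
      calc g ^ (j + 1) * y * (g ^ (j + 1))⁻¹ = g * (g ^ j * y * (g ^ j)⁻¹) * g⁻¹ := by
            rw [pow_succ']; group
        _ = (g * y * g⁻¹) ^ (k ^ j) := by rw [ih, conj_pow]
        _ = y ^ (k ^ (j + 1)) := by rw [← hk, ← pow_mul, ← pow_succ']
  have hu2 : (k : ZMod (p ^ n)) ^ orderOf g = 1 := by
    have h1 := hiter (orderOf g)
    rw [pow_orderOf_eq_one, one_mul, inv_one, mul_one] at h1
    have h2 : y ^ 1 = y ^ (k ^ orderOf g) := by rw [pow_one]; exact h1
    rw [pow_eq_pow_iff_modEq, hyn, ← ZMod.natCast_eq_natCast_iff] at h2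
    push_cast at h2
    exact h2.symm
  have hu : (k : ZMod (p ^ n)) = 1 := by
    have h1 := pow_gcd_eq_one.2 ⟨hu1, hu2⟩
    rwa [Nat.Coprime.gcd_eq_one (hco.symm.pow_left n), pow_one] at h1
  have hgy : g * y * g⁻¹ = y := by
    rw [← hk]
    conv_rhs => rw [← pow_one y]
    rw [pow_eq_pow_iff_modEq, hyn, ← ZMod.natCast_eq_natCast_iff, hu, Nat.cast_one]
  refine mem_centralizer_iff.2 fun z hz => ?_
  obtain ⟨t, rfl⟩ := mem_zpowers_iff.1 (hy.symm ▸ hz : z ∈ zpowers y)
  exact ((show Commute g y from mul_inv_eq_iff_eq_mul.1 hgy).zpow_right t).eq.symm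

/-- A nontrivial `p`-soluble group has a nontrivial core. -/
theorem core_ne_bot_of_isPSolvable {G : Type*} [Group G] [Finite G] {p : ℕ} [Fact p.Prime]
    (h : IsPSolvable p G) [Nontrivial G] : pPrimeCore p G ≠ ⊥ ∨ pCore p G ≠ ⊥ := by
  by_contra hcon
  push Not at hcon
  have h1 := CfsgLib.Transfer.le_pCore_of_isPSolvable_of_le_centralizer hcon.1
    (C := (⊤ : Subgroup G)) (fun z _ => mem_centralizer_iff.2 fun t ht => by
      rw [SetLike.mem_coe, hcon.2, mem_bot] at ht
      rw [ht, one_mul, mul_one])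
    (CfsgLib.Transfer.isPSolvable_subgroup h ⊤)
  rw [hcon.2, le_bot_iff] at h1
  exact top_ne_bot h1

/-- The hypothesis on pairs is inherited by quotients by normal `p'`-subgroups. -/
theorem pair_quotient {G : Type*} [Group G] [Finite G] {p : ℕ} [Fact p.Prime] (K : Subgroup G)
    [K.Normal] (hK : (Nat.card K).Coprime p)
    (hP : ∀ a b : G, orderOf a = p → orderOf b = p → IsPSolvable p ↥(closure ({a, b} : Set G)))
    (a b : G ⧸ K) (ha : orderOf a = p) (hb : orderOf b = p) :
    IsPSolvable p ↥(closure ({a, b} : Set (G ⧸ K))) := by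
  have hpp : p.Prime := Fact.out
  have lift : ∀ a : G ⧸ K, orderOf a = p → ∃ c : G, orderOf c = p ∧ QuotientGroup.mk' K c = a := by
    intro a ha
    obtain ⟨a', rfl⟩ := QuotientGroup.mk'_surjective K a
    have hmem : a' ^ p ∈ K := by
      rw [← QuotientGroup.eq_one_iff, ← QuotientGroup.mk'_apply, map_pow, ← ha, pow_orderOf_eq_one]
    set m := Nat.card K with hm
    have h1 : (a' ^ m) ^ p = 1 := by
      rw [← pow_mul, mul_comm, pow_mul]
      exact congrArg Subtype.val (pow_card_eq_one' (G := ↥K) (x := ⟨_, hmem⟩))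
    obtain ⟨j, -, hj⟩ := Nat.exists_mul_mod_eq_one_of_coprime hK hpp.one_lt
    refine ⟨(a' ^ m) ^ j, ?_, ?_⟩
    · have h2 : QuotientGroup.mk' K ((a' ^ m) ^ j) = QuotientGroup.mk' K a' := by
        rw [map_pow, map_pow, ← pow_mul, ← pow_mod_orderOf, ha, hj, pow_one]
      refine orderOf_eq_prime (by rw [← pow_mul, mul_comm, pow_mul, h1, one_pow]) fun h3 => ?_
      rw [h3, map_one] at h2
      rw [← h2, orderOf_one] at ha
      exact hpp.one_lt.ne ha
    · rw [map_pow, map_pow, ← pow_mul, ← pow_mod_orderOf, ha, hj, pow_one]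
  obtain ⟨a', ha', rfl⟩ := lift a ha
  obtain ⟨b', hb', rfl⟩ := lift b hb
  have := CfsgLib.Transfer.isPSolvable_map_subgroup (hP a' b' ha' hb') (QuotientGroup.mk' K)
  rwa [MonoidHom.map_closure, Set.image_pair] at this

theorem isPSolvable_of_pairs_aux (p : ℕ) [Fact p.Prime] : ∀ (n : ℕ) (G : Type u) [Group G] [Finite G],
    Nat.card G = n → (∀ H : Subgroup G, IsPGroup p H → IsCyclic ↥H) →
    (∀ a b : G, orderOf a = p → orderOf b = p → IsPSolvable p ↥(closure ({a, b} : Set G))) →
    IsPSolvable p G := by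
  intro n
  induction n using Nat.strong_induction_on with
  | _ n ih =>
  intro G _ _ hn hC hP
  have hpp : p.Prime := Fact.out
  by_cases hdvd : p ∣ Nat.card G
  swap
  · exact isPSolvable_of_not_dvd_card hdvd
  haveI hKc := CfsgLib.Cores.pPrimeCore_characteristic (G := G) p
  haveI hKn : (pPrimeCore p G).Normal := inferInstance
  by_cases hK : pPrimeCore p G = ⊥
  swap
  · have hco := CfsgLib.Cores.coprime_card_pPrimeCore (G := G) p
    have hlt : Nat.card (G ⧸ pPrimeCore p G) < n := by
      rw [← hn, card_eq_card_quotient_mul_card_subgroup (pPrimeCore p G)]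
      exact lt_mul_of_one_lt_right Nat.card_pos (one_lt_card_iff_ne_bot _ |>.2 hK)
    refine CfsgLib.Modular.FongSwan.isPSolvable_of_ker_coprime (QuotientGroup.mk'_surjective (pPrimeCore p G))
      (by rw [QuotientGroup.ker_mk']; exact hpp.coprime_iff_not_dvd.1 hco.symm)
      (ih _ hlt _ rfl ?_ (pair_quotient _ hco hP))
    obtain ⟨P⟩ : Nonempty (Sylow p G) := inferInstance
    refine isCyclic_of_sylow (P.mapSurjective (QuotientGroup.mk'_surjective (pPrimeCore p G))) ?_
    rw [Sylow.coe_mapSurjective]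
    haveI := hC _ P.isPGroup'
    exact isCyclic_of_surjective _ ((QuotientGroup.mk' (pPrimeCore p G)).subgroupMap_surjective (P : Subgroup G))
  by_cases hO : pCore p G = ⊥
  swap
  · -- the unique subgroup of order `p` is normal
    have hOp : IsPGroup p (pCore p G) := CfsgLib.Cores.isPGroup_pCore p
    haveI : IsCyclic ↥(pCore p G) := hC _ hOp
    obtain ⟨k, hk⟩ := IsPGroup.iff_card.1 hOp
    have hk0 : k ≠ 0 := fun h0 => hO (card_eq_one.1 (by rw [hk, h0, pow_zero]))
    obtain ⟨x', hx'⟩ := exists_prime_orderOf_dvd_card' (G := ↥(pCore p G)) p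
      (hk ▸ dvd_pow_self p hk0)
    have hx : orderOf (x' : G) = p := by rw [orderOf_coe, hx']
    set x : G := (x' : G) with hxdef
    set C := centralizer ((zpowers x : Subgroup G) : Set G) with hCdef
    haveI hZn : (zpowers x).Normal := ⟨fun z hz g => by
      haveI : (pCore p G).Normal := by
        have := CfsgLib.Cores.pCore_characteristic (G := G) p
        infer_instance
      have hgx : g * x * g⁻¹ ∈ zpowers x := by
        have hmem : g * x * g⁻¹ ∈ pCore p G := Normal.conj_mem inferInstance _ x'.2 g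
        have h1 : (⟨_, hmem⟩ : ↥(pCore p G)) ∈ zpowers x' := mem_zpowers_of_cyclic hx' (Subtype.ext (by
          rw [SubmonoidClass.coe_pow, conj_pow, ← hx, pow_orderOf_eq_one, mul_one, mul_inv_cancel, OneMemClass.coe_one]))
        obtain ⟨i, hi⟩ := mem_zpowers_iff.1 h1
        exact mem_zpowers_iff.2 ⟨i, congrArg Subtype.val hi⟩
      obtain ⟨i, rfl⟩ := mem_zpowers_iff.1 hz
      rw [← conj_zpow]
      exact zpow_mem hgx i⟩
    haveI hCn : C.Normal := inferInstance
    have hxC : x ∈ C := mem_centralizer_iff.2 fun z hz => by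
      obtain ⟨i, rfl⟩ := mem_zpowers_iff.1 hz
      exact ((Commute.refl x).zpow_left i).eq
    have hcompl : HasNormalPComplement p ↥C := by
      refine hasNormalPComplement_of_cyclic_central (fun H hH => ?_) (x := (⟨x, hxC⟩ : ↥C))
        (by rw [orderOf_mk, hx]) fun g => Subtype.ext ?_
      · haveI := hC _ (hH.map C.subtype)
        exact isCyclic_of_surjective _ (H.equivMapOfInjective _ C.subtype_injective).symm.surjective
      · exact (mem_centralizer_iff.1 g.2 x (mem_zpowers x)).symm
    obtain ⟨N, hN, hNco, j, hj⟩ := CfsgLib.Transfer.hasNormalPComplement_iff.1 hcompl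
    haveI := CfsgLib.Cores.pPrimeCore_characteristic (G := ↥C) p
    have hcore : pPrimeCore p ↥C = ⊥ := by
      have h1 : (pPrimeCore p ↥C).map C.subtype ≤ pPrimeCore p G := by
        refine CfsgLib.Cores.le_pPrimeCore ?_
        rw [card_map_of_injective C.subtype_injective]
        exact CfsgLib.Cores.coprime_card_pPrimeCore p
      rw [hK, le_bot_iff, map_eq_bot_iff_of_injective _ C.subtype_injective] at h1
      exact h1
    haveI := hN
    have hN1 : N = ⊥ := le_bot_iff.1 (hcore ▸ CfsgLib.Cores.le_pPrimeCore hNco)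
    rw [hN1, index_bot] at hj
    refine isPSolvable_of_two_steps C hCn (Or.inl ⟨j, hj⟩) (Or.inr ?_)
    obtain ⟨P, hxP⟩ := (IsPGroup.of_card (G := ↥(zpowers x)) (n := 1)
      (by rw [Nat.card_zpowers, hx, pow_one])).exists_le_sylow
    haveI := hC _ P.isPGroup'
    have hPC : (P : Subgroup G) ≤ C := fun g hg => mem_centralizer_iff.2 fun z hz =>
      congrArg Subtype.val ((IsCyclic.isMulCommutative (α := ↥(P : Subgroup G))).is_comm.comm
        (⟨z, hxP hz⟩ : ↥(P : Subgroup G)) ⟨g, hg⟩)
    exact (hpp.coprime_iff_not_dvd.2 fun hd => P.not_dvd_index (hd.trans (index_dvd_of_le hPC))).symm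
  by_cases hs : ∀ N : Subgroup G, N.Normal → N = ⊥ ∨ N = ⊤
  swap
  · push Not at hs
    obtain ⟨N, hN, hN1, hN2⟩ := hs
    haveI := hN
    have hlt : Nat.card N < n := by
      rw [← hn]
      exact lt_of_le_of_ne (Nat.le_of_dvd Nat.card_pos (card_subgroup_dvd_card N)) fun h => hN2 (eq_top_of_card_eq _ h)
    have hsol : IsPSolvable p ↥N := by
      refine ih _ hlt _ rfl (fun H hH => ?_) fun a b ha hb => ?_
      · haveI := hC _ (hH.map N.subtype)
        exact isCyclic_of_surjective _ (H.equivMapOfInjective _ N.subtype_injective).symm.surjective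
      · have h1 := hP a b (by rw [orderOf_coe, ha]) (by rw [orderOf_coe, hb])
        have e : (closure ({a, b} : Set ↥N)).map N.subtype = closure ({(a : G), (b : G)} : Set G) := by
          rw [MonoidHom.map_closure, Set.image_pair]
          rfl
        rw [← e] at h1
        exact CfsgLib.Transfer.isPSolvable_of_surjective h1
          (f := ((closure ({a, b} : Set ↥N)).equivMapOfInjective _ N.subtype_injective).symm.toMonoidHom)
          (MulEquiv.surjective _)
    haveI : Nontrivial ↥N := N.nontrivial_iff_ne_bot.2 hN1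
    haveI := CfsgLib.Cores.pPrimeCore_characteristic (G := ↥N) p
    haveI := CfsgLib.Cores.pCore_characteristic (G := ↥N) p
    rcases core_ne_bot_of_isPSolvable hsol with h | h
    · refine absurd ?_ h
      have h1 : (pPrimeCore p ↥N).map N.subtype ≤ pPrimeCore p G := by
        refine CfsgLib.Cores.le_pPrimeCore ?_
        rw [card_map_of_injective N.subtype_injective]
        exact CfsgLib.Cores.coprime_card_pPrimeCore p
      rw [hK, le_bot_iff, map_eq_bot_iff_of_injective _ N.subtype_injective] at h1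
      exact h1
    · refine absurd ?_ h
      have h1 : (pCore p ↥N).map N.subtype ≤ pCore p G :=
        CfsgLib.Cores.le_pCore ((CfsgLib.Cores.isPGroup_pCore p).map _)
      rw [hO, le_bot_iff, map_eq_bot_iff_of_injective _ N.subtype_injective] at h1
      exact h1
  haveI : Nontrivial G := Finite.one_lt_card_iff_nontrivial.1 (lt_of_lt_of_le hpp.one_lt (Nat.le_of_dvd Nat.card_pos hdvd))
  haveI hsimple : IsSimpleGroup G := ⟨hs⟩
  by_cases hab : IsMulCommutative G
  · haveI := hab
    let _ : CommGroup G := { ‹Group G› with mul_comm := hab.is_comm.comm }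
    have hprime : (Nat.card G).Prime := IsSimpleGroup.prime_card
    exact isPSolvable_of_isPGroup' (IsPGroup.of_card (n := 1)
      (by rw [pow_one]; exact ((Nat.prime_dvd_prime_iff_eq hpp hprime).1 hdvd).symm))
  exfalso
  obtain ⟨P⟩ : Nonempty (Sylow p G) := inferInstance
  haveI hPc : IsCyclic ↥(P : Subgroup G) := hC _ P.isPGroup'
  by_cases hp2 : p = 2
  · subst hp2
    obtain ⟨N, hN, hNco, j, hj⟩ := CfsgLib.Transfer.hasNormalPComplement_iff.1
      (CfsgLib.LocalEven.HSub.hasNormalPComplement_of_cyclic (fun q hq _ => hq.two_le) P)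
    rcases hs N hN with rfl | rfl
    · have h1 : (⊤ : Subgroup G) ≤ pCore 2 G :=
        CfsgLib.Cores.le_pCore (IsPGroup.of_card (n := j) (by rw [card_top, ← index_bot, hj]))
      rw [hO, le_bot_iff] at h1
      exact top_ne_bot h1
    · rw [card_top] at hNco
      exact hpp.coprime_iff_not_dvd.1 hNco.symm hdvd
  refine Setup.false_of_cyclic (p := p) ⟨hsimple, hab, hp2, fun H hH a ha b hb => ?_, hP, fun x hx => ?_⟩ P hPc hdvd
  · haveI := hC H hH
    exact congrArg Subtype.val ((IsCyclic.isMulCommutative (α := ↥H)).is_comm.comm (⟨a, ha⟩ : ↥H) ⟨b, hb⟩)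
  · set Z := centralizer ({x} : Set G)
    refine index_pPrimeCore_pow (hasNormalPComplement_of_cyclic_central (fun H hH => ?_)
      (x := (⟨x, mem_centralizer_singleton_iff.2 rfl⟩ : ↥Z)) (by rw [orderOf_mk, hx]) fun g => Subtype.ext ?_)
    · haveI := hC _ (hH.map Z.subtype)
      exact isCyclic_of_surjective _ (H.equivMapOfInjective _ Z.subtype_injective).symm.surjective
    · exact mem_centralizer_singleton_iff.1 g.2

/-- Pairs of elements of order `p` decide `p`-solubility when the Sylow `p`-subgroups are cyclic. -/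
theorem isPSolvable_iff_pairs {G : Type u} [Group G] [Finite G] {p : ℕ} [Fact p.Prime] (P : Sylow p G)
    (hP : IsCyclic ↥(P : Subgroup G)) :
    IsPSolvable p G ↔ ∀ x y : G, orderOf x = p → orderOf y = p →
      IsPSolvable p ↥(closure ({x, y} : Set G)) :=
  ⟨fun h x y _ _ => CfsgLib.Transfer.isPSolvable_subgroup h _,
    isPSolvable_of_pairs_aux p _ G rfl (isCyclic_of_sylow P hP)⟩

end CfsgLib.Transfer.PairProducts
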