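import Cfsg.Agent.Lib.Transfer.PairProducts.Sum
import Cfsg.Agent.Lib.Transfer.Fusion
import Cfsg.Agent.Lib.Invol.Sylow

/-!
Elementary abelian Sylow subgroups with one class of elements of order `p`.
-/

set_option autoImplicit false

noncomputable section

namespace CfsgLib.Transfer.PairProducts

open Cfsg
open scoped ComplexConjugate

universe u

variable {G : Type u} [Group G]

theorem index_pPrimeCore_pow [Finite G] {p : ℕ} [Fact p.Prime] (h : HasNormalPComplement p G) :
    ∃ k : ℕ, (pPrimeCore p G).index = p ^ k := by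
  obtain ⟨N, hN, hco, k, hk⟩ := CfsgLib.Transfer.hasNormalPComplement_iff.1 h
  haveI := hN
  obtain ⟨j, -, hj⟩ := (Nat.dvd_prime_pow Fact.out).1
    (hk ▸ Subgroup.index_dvd_of_le (CfsgLib.Cores.le_pPrimeCore (p := p) hco))
  exact ⟨j, hj⟩

theorem index_pPrimeCore_conj [Finite G] {p : ℕ} {x c g : G} (hg : g * x * g⁻¹ = c) {k : ℕ}
    (h : (pPrimeCore p ↥(Subgroup.centralizer ({x} : Set G))).index = p ^ k) :
    (pPrimeCore p ↥(Subgroup.centralizer ({c} : Set G))).index = p ^ k := by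
  have e : (Subgroup.centralizer ({x} : Set G)).map (MulAut.conj g).toMonoidHom =
      Subgroup.centralizer ({c} : Set G) := by
    ext y
    rw [CfsgLib.Invol.mem_map_conj, Subgroup.mem_centralizer_singleton_iff,
      Subgroup.mem_centralizer_singleton_iff, ← hg]
    constructor <;> intro hh
    · calc y * (g * x * g⁻¹) = g * (g⁻¹ * y * g * x) * g⁻¹ := by group
        _ = g * x * g⁻¹ * y := by rw [hh]; group
    · calc g⁻¹ * y * g * x = g⁻¹ * (y * (g * x * g⁻¹)) * g := by group
        _ = x * (g⁻¹ * y * g) := by rw [hh]; group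
  set φ := ((Subgroup.centralizer ({x} : Set G)).equivMapOfInjective (MulAut.conj g).toMonoidHom
    (MulAut.conj g).injective).trans (MulEquiv.subgroupCongr e)
  rw [← CfsgLib.Cores.map_pPrimeCore_equiv φ,
    Subgroup.index_map_of_bijective φ.bijective, h]

/-- A nonprincipal irreducible character of a simple group takes its degree only at `1`. -/
theorem eq_one_of_apply_eq_degree [Fintype G] (hs : IsSimpleGroup G) {χ : IrrCharacter G}
    (hne : χ ≠ CfsgLib.Char.irrOne) {x : G} (h : (χ : G → ℂ) x = (χ : G → ℂ) 1) : x = 1 := by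
  classical
  have hχ := CfsgLib.Char.isCharacter_of_isIrr χ.2
  rcases hs.eq_bot_or_eq_top_of_normal _ (CfsgLib.CharNormal.charKer_normal hχ) with hk | hk
  · have hm : x ∈ CfsgLib.CharNormal.charKer hχ := CfsgLib.CharNormal.mem_charKer.2 h
    rw [hk, Subgroup.mem_bot] at hm
    exact hm
  · exfalso
    have hconst : ∀ g, (χ : G → ℂ) g = (χ : G → ℂ) 1 := fun g =>
      CfsgLib.CharNormal.mem_charKer.1 (hk ▸ Subgroup.mem_top g)
    have h1 := CfsgLib.Char.classInner_irr_ne χ.2 CfsgLib.Char.isIrrCharacter_one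
      (fun e => hne (Subtype.ext e))
    rw [CfsgLib.Char.classInner_one_right, Finset.sum_congr rfl fun g _ => hconst g, Finset.sum_const,
      nsmul_eq_mul, Finset.card_univ, ← Nat.card_eq_fintype_card, ← mul_assoc,
      inv_mul_cancel₀ CfsgLib.Char.card_ne_zero', one_mul] at h1
    exact CfsgLib.Char.irr_one_ne_zero χ.2 h1

/-- The theorem of S1951. -/
theorem eq_two_of_one_class [Finite G] [IsSimpleGroup G] (hG : ¬ IsMulCommutative G) {p : ℕ}
    [Fact p.Prime] (P : Sylow p G) (hP1 : (P : Subgroup G) ≠ ⊥)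
    (hPe : IsElementaryAbelian p (P : Subgroup G))
    (hconj : ∀ x ∈ (P : Subgroup G), ∀ y ∈ (P : Subgroup G), x ≠ 1 → y ≠ 1 → ∃ g : G, g * x * g⁻¹ = y)
    (hb : ∀ x ∈ (P : Subgroup G), orderOf x = p →
      HasNormalPComplement p ↥(Subgroup.centralizer ({x} : Set G)))
    (hc : ∀ x y : G, orderOf x = p → orderOf y = p →
      IsPSolvable p ↥(Subgroup.closure ({x, y} : Set G))) : p = 2 := by
  classical
  by_contra hp2
  have hpp : p.Prime := Fact.out
  let _ := Fintype.ofFinite G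
  obtain ⟨x, hxP, hx1⟩ : ∃ x ∈ (P : Subgroup G), x ≠ 1 := by
    by_contra hcon
    push Not at hcon
    exact hP1 (eq_bot_iff.2 fun v hv => Subgroup.mem_bot.2 (hcon v hv))
  have hxo : orderOf x = p := orderOf_eq_prime (hPe.2 x hxP) hx1
  have hint : ∀ c : G, orderOf c = p → ∃ g : G, g * x * g⁻¹ = c := by
    intro c hco
    have hcp : IsPGroup p (Subgroup.zpowers c) :=
      IsPGroup.of_card (n := 1) (by rw [Nat.card_zpowers, hco, pow_one])
    obtain ⟨g, hg⟩ := CfsgLib.Transfer.exists_conj_mem_sylow P hcp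
    have hc' := hg c (Subgroup.mem_zpowers c)
    obtain ⟨g', hg'⟩ := hconj x hxP _ hc' hx1 fun e => by
      rw [mul_inv_eq_one, mul_eq_left] at e
      rw [e, orderOf_one] at hco
      exact hpp.one_lt.ne hco
    exact ⟨g⁻¹ * g', by rw [show g⁻¹ * g' * x * (g⁻¹ * g')⁻¹ = g⁻¹ * (g' * x * g'⁻¹) * g by group, hg']; group⟩
  have hsetup : Setup p G := by
    refine ⟨inferInstance, hG, hp2, fun H hH a ha b hb' => ?_, hc, fun c hco => ?_⟩
    · obtain ⟨g, hg⟩ := CfsgLib.Transfer.exists_conj_mem_sylow P hH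
      have h1 := CfsgLib.PGroup.elemAb_comm hPe (hg a ha) (hg b hb')
      have h2 : g * (a * b) * g⁻¹ = g * (b * a) * g⁻¹ := by
        calc g * (a * b) * g⁻¹ = (g * a * g⁻¹) * (g * b * g⁻¹) := by group
          _ = (g * b * g⁻¹) * (g * a * g⁻¹) := h1
          _ = g * (b * a) * g⁻¹ := by group
      exact mul_left_cancel (mul_right_cancel h2)
    · obtain ⟨g, hg⟩ := hint c hco
      obtain ⟨k, hk⟩ := index_pPrimeCore_pow (hb x hxP hxo)
      exact ⟨k, index_pPrimeCore_conj hg hk⟩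
  obtain ⟨M, hM⟩ := CfsgLib.Blocks.exists_isPModular hpp
  haveI : M.IsMaximal := hM.2.1
  set C := Finset.univ.filter fun c : G => orderOf c = p
  have hC : ∀ c, c ∈ C ↔ orderOf c = p := fun c => by simp [C]
  have hclass : ∀ c, c ∈ C ↔ IsConj x c := fun c => by
    rw [hC, isConj_iff]
    exact ⟨hint c, fun ⟨g, hg⟩ => by rw [← hg, ← MulAut.conj_apply, MulEquiv.orderOf_eq, hxo]⟩
  have hCc : C.card = Nat.card {c : G // IsConj x c} := by
    rw [Nat.card_eq_fintype_card, Fintype.card_subtype]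
    congr 1
    ext c
    rw [hclass]; simp
  set Z := Subgroup.centralizer ({x} : Set G)
  let _ := Fintype.ofFinite Z
  have hPZ : (P : Subgroup G) ≤ Z := fun y hy =>
    Subgroup.mem_centralizer_singleton_iff.2 (CfsgLib.PGroup.elemAb_comm hPe hy hxP)
  set q := p ^ (Nat.card Z).factorization p with hq
  have hqP : q = Nat.card (P : Subgroup G) := by
    rw [Sylow.card_eq_multiplicity P, hq]
    congr 1
    refine le_antisymm ?_ ?_
    · exact (hpp.pow_dvd_iff_le_factorization Nat.card_pos.ne').1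
        ((Nat.ordProj_dvd _ _).trans (Subgroup.card_subgroup_dvd_card Z))
    · refine (hpp.pow_dvd_iff_le_factorization Nat.card_pos.ne').1 ?_
      rw [← Sylow.card_eq_multiplicity P]
      exact Subgroup.card_dvd_of_le hPZ
  have hq3 : 3 ≤ q := by
    have h1 : p ∣ q := by
      have h0 := Subgroup.orderOf_dvd_natCard _ hxP
      rw [hxo] at h0
      rwa [hqP]
    have := Nat.le_of_dvd (by rw [hq]; exact pow_pos hpp.pos _) h1
    have := hpp.two_le
    omega
  have hqR : (3 : ℝ) ≤ q := by exact_mod_cast hq3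
  have hpR : (3 : ℝ) ≤ p := by
    have := hpp.two_le
    exact_mod_cast (show 3 ≤ p by omega)
  refine hsetup.false_of_bound hM hxo
    (fun c hco => ⟨(hint c hco).choose, 1, by rw [pow_one]; exact (hint c hco).choose_spec⟩) C hC
    (((q : ℝ) - 2) / (2 * ((q : ℝ) - 1))) (div_nonneg (by linarith) (by linarith)) (q : ℝ) ?_ ?_ ?_
  · rw [hCc]
  · have e : ((q : ℝ) - 2) / (2 * ((q : ℝ) - 1)) * ((q : ℝ) - 1) = ((q : ℝ) - 2) / 2 := by
      field_simp [show (q : ℝ) - 1 ≠ 0 by linarith]
    rw [e, le_div_iff₀ (by linarith)]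
    nlinarith
  intro χ hχB hne
  have hsum : ∑ c ∈ C, (χ : G → ℂ) c = (C.card : ℂ) * (χ : G → ℂ) x := by
    rw [Finset.sum_congr rfl fun c hc => show (χ : G → ℂ) c = (χ : G → ℂ) x by
      obtain ⟨g, rfl⟩ := isConj_iff.1 ((hclass c).1 hc)
      exact CfsgLib.Char.isClassFunction_of_isIrr χ.2 x g, Finset.sum_const, nsmul_eq_mul]
  obtain ⟨d, hd0, hd⟩ := CfsgLib.Char.exists_degree_pos χ.2
  -- integrality of the value at `x`
  let _ := Fintype.ofFinite (P : Subgroup G)
  obtain ⟨m, hm⟩ := CfsgLib.Char.classInner_char_nat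
    (CfsgLib.Char.isCharacter_res (P : Subgroup G) (CfsgLib.Char.isCharacter_of_isIrr χ.2))
    (CfsgLib.Char.isCharacter_one (G := (P : Subgroup G)))
  rw [CfsgLib.Char.classInner_one_right, inv_mul_eq_iff_eq_mul₀ CfsgLib.Char.card_ne_zero',
    ← Finset.add_sum_erase _ _ (Finset.mem_univ (1 : (P : Subgroup G))), OneMemClass.coe_one, hd,
    Finset.sum_congr rfl fun (y : (P : Subgroup G)) hy => show (χ : G → ℂ) (y : G) = (χ : G → ℂ) x by
      obtain ⟨g, hg⟩ := hconj x hxP y y.2 hx1 fun e => (Finset.mem_erase.1 hy).1 (Subtype.ext e)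
      rw [← hg]; exact CfsgLib.Char.isClassFunction_of_isIrr χ.2 x g,
    Finset.sum_const, nsmul_eq_mul, Finset.card_erase_of_mem (Finset.mem_univ _), Finset.card_univ,
    ← Nat.card_eq_fintype_card, ← hqP, Nat.cast_sub (by omega), Nat.cast_one] at hm
  have hq1 : ((q : ℂ) - 1) ≠ 0 := by
    rw [sub_ne_zero]; exact_mod_cast (show q ≠ 1 by omega)
  obtain ⟨a, ha⟩ : ∃ a : ℤ, (χ : G → ℂ) x = a := by
    have e : (χ : G → ℂ) x = (((((q : ℚ) * m - d) / ((q : ℚ) - 1)) : ℚ) : ℂ) := by
      push_cast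
      rw [eq_div_iff hq1]
      linear_combination hm
    obtain ⟨z, hz⟩ := CfsgLib.Char.exists_int_of_isIntegral_rat (q := ((q : ℚ) * m - d) / ((q : ℚ) - 1))
      (e ▸ CfsgLib.Char.char_isIntegral (CfsgLib.Char.isCharacter_of_isIrr χ.2) x)
    exact ⟨z, by rw [e, hz]; simp⟩
  rw [ha] at hm
  have hmz : (d : ℤ) + ((q : ℤ) - 1) * a = (q : ℤ) * m := by exact_mod_cast hm
  have hnorm : a ≤ d := by
    have h1 := CfsgLib.Char.norm_char_le (CfsgLib.Char.isCharacter_of_isIrr χ.2) x
    rw [ha, hd, Complex.norm_intCast, Complex.natCast_re] at h1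
    exact_mod_cast (le_abs_self (a : ℝ)).trans h1
  have hned : a ≠ d := fun e => hx1 (eq_one_of_apply_eq_degree inferInstance hne (by
    rw [ha, hd, e]; simp))
  have hgap : a + q ≤ d := by
    have h1 : (d : ℤ) - a = q * (m - a) := by linear_combination hmz
    have h2 : 0 < (m : ℤ) - a := by
      by_contra hh
      have : (q : ℤ) * (m - a) ≤ 0 := mul_nonpos_of_nonneg_of_nonpos (by positivity) (by linarith)
      omega
    nlinarith
  have hsq : (a : ℝ) ^ 2 ≤ (q : ℝ) - 1 := by
    let _ : DecidablePred (· ∈ principalBlock M G) := fun _ => Classical.propDecidable _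
    have h1 := CfsgLib.Blocks.sum_principal_section_complement (M := M) hM (x := x) ⟨1, by rw [hxo, pow_one]⟩
      (hsetup.compl x hxo) (y := (1 : Z)) (by rw [orderOf_one]; exact hpp.not_dvd_one)
    simp only [OneMemClass.coe_one, mul_one] at h1
    have h2 := congrArg Complex.re h1
    rw [Complex.re_sum, ← hq, Complex.natCast_re] at h2
    set F : IrrCharacter G → ℝ := fun ζ => (if ζ ∈ principalBlock M G then
      (ζ : G → ℂ) x * conj ((ζ : G → ℂ) x) else 0).re
    have hF0 : ∀ ζ, 0 ≤ F ζ := fun ζ => by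
      simp only [F]
      split_ifs
      · rw [Complex.mul_conj, Complex.ofReal_re]; exact Complex.normSq_nonneg _
      · simp
    have h3 : F CfsgLib.Char.irrOne + F χ ≤ ∑ ζ, F ζ :=
      Finset.add_le_sum (fun ζ _ => hF0 ζ) (Finset.mem_univ _) (Finset.mem_univ _) (Ne.symm hne)
    have h4 : F CfsgLib.Char.irrOne = 1 := by
      simp only [F, if_pos (CfsgLib.Blocks.irrOne_mem_principalBlock (M := M)), CfsgLib.Char.irrOne_apply]
      simp
    have h5 : F χ = (a : ℝ) ^ 2 := by
      simp only [F, if_pos hχB, ha]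
      simp [sq]
    linarith
  have hgapR : (a : ℝ) + q ≤ d := by exact_mod_cast hgap
  have e3 : (∑ c ∈ C, (χ : G → ℂ) c).re = (C.card : ℝ) * a := by rw [hsum, ha]; simp
  rw [e3, hd, Complex.natCast_re]
  have key : (a : ℝ) ≤ ((q : ℝ) - 2) / (2 * ((q : ℝ) - 1)) * d := by
    rw [div_mul_eq_mul_div, le_div_iff₀ (by linarith)]
    rcases le_or_gt a 0 with h0 | h0
    · have : (a : ℝ) ≤ 0 := by exact_mod_cast h0
      have : (0 : ℝ) ≤ d := d.cast_nonneg
      nlinarith
    · have hsqZ : a ^ 2 ≤ (q : ℤ) - 1 := by exact_mod_cast hsq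
      have h6 : a ≤ (q : ℤ) - 2 := by nlinarith
      have h6R : (a : ℝ) ≤ (q : ℝ) - 2 := by exact_mod_cast h6
      nlinarith
  calc (C.card : ℝ) * a ≤ C.card * (((q : ℝ) - 2) / (2 * ((q : ℝ) - 1)) * d) :=
        mul_le_mul_of_nonneg_left key (Nat.cast_nonneg _)
    _ = _ := by ring

end CfsgLib.Transfer.PairProducts
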