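import Cfsg.Agent.Lib.Transfer.PSolvable
import Cfsg.Agent.Lib.Transfer.Basic
import Cfsg.Agent.Lib.Solvable.SchmidtLength
import Cfsg.Agent.Lib.Cores.Basic
import Cfsg.Agent.Lib.Blocks.PPart

/-!
Pairs of elements of order `p` that generate a `p`-soluble subgroup with abelian Sylow
`p`-subgroups: the quotient by `O_{p'}` is an elementary abelian `p`-group.
-/

set_option autoImplicit false

namespace CfsgLib.Transfer.PairProducts

open Subgroup Cfsg

universe u

variable {G : Type u} [Group G] [Finite G] {p : ℕ} [Fact p.Prime]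

/-- Abelian `p`-subgroups and `p`-soluble pairs of elements of order `p`. -/
structure Setup (p : ℕ) (G : Type*) [Group G] : Prop where
  simple : IsSimpleGroup G
  nonab : ¬ IsMulCommutative G
  ne_two : p ≠ 2
  sylowAb : ∀ H : Subgroup G, IsPGroup p H → ∀ a ∈ H, ∀ b ∈ H, a * b = b * a
  pair : ∀ a b : G, orderOf a = p → orderOf b = p →
    IsPSolvable p ↥(Subgroup.closure ({a, b} : Set G))
  compl : ∀ x : G, orderOf x = p →
    ∃ k : ℕ, (pPrimeCore p ↥(centralizer ({x} : Set G))).index = p ^ k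

theorem Setup.pair_hom (h : Setup p G) {a b : G} (ha : orderOf a = p) (hb : orderOf b = p) :
    ∃ (Q : Type u) (_ : Group Q) (π : ↥(Subgroup.closure ({a, b} : Set G)) →* Q),
      IsPGroup p Q ∧ (∀ u v : Q, u * v = v * u) ∧ (∀ z, π z = 1 → ¬ p ∣ orderOf z) ∧
        (∀ z, ¬ p ∣ orderOf z → π z = 1) := by
  classical
  have hpp : p.Prime := Fact.out
  set H := Subgroup.closure ({a, b} : Set G) with hH
  have hsol : IsPSolvable p H := h.pair a b ha hb
  set K := pPrimeCore p H with hK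
  haveI hKn : K.Normal := by
    haveI := CfsgLib.Cores.pPrimeCore_characteristic (G := H) p
    infer_instance
  have hsq : IsPSolvable p (↥H ⧸ K) := CfsgLib.Transfer.isPSolvable_quotient hsol K
  have hO : pPrimeCore p (↥H ⧸ K) = ⊥ := CfsgLib.Cores.pPrimeCore_quotient_self p
  obtain ⟨P⟩ : Nonempty (Sylow p H) := inferInstance
  set Pq := P.mapSurjective (f := QuotientGroup.mk' K) (QuotientGroup.mk'_surjective K) with hPq
  have hcomm : ∀ u v : ↥(Pq : Subgroup (↥H ⧸ K)), (u : ↥H ⧸ K) * v = v * u := by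
    rintro ⟨u, hu⟩ ⟨v, hv⟩
    rw [hPq, Sylow.coe_mapSurjective] at hu hv
    obtain ⟨u', hu', rfl⟩ := hu
    obtain ⟨v', hv', rfl⟩ := hv
    show QuotientGroup.mk' K u' * QuotientGroup.mk' K v' = QuotientGroup.mk' K v' * QuotientGroup.mk' K u'
    rw [← map_mul, ← map_mul]
    congr 1
    exact Subtype.ext (h.sylowAb ((P : Subgroup H).map H.subtype) (P.isPGroup'.map _) _
      (mem_map_of_mem H.subtype hu') _ (mem_map_of_mem H.subtype hv'))
  set V := pCore p (↥H ⧸ K) with hV
  have hCV := CfsgLib.Transfer.centralizer_pCore_le_of_isPSolvable hsq hO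
  have hPV : (Pq : Subgroup (↥H ⧸ K)) ≤ V := by
    refine le_trans (fun u hu => mem_centralizer_iff.2 fun v hv => ?_) hCV
    exact hcomm ⟨v, CfsgLib.Cores.pCore_le_sylow Pq hv⟩ ⟨u, hu⟩
  have hmemV : ∀ (z : H), orderOf (z : G) = p → QuotientGroup.mk' K z ∈ V := by
    intro z hz
    have hzp : IsPGroup p (zpowers z) :=
      IsPGroup.of_card (n := 1) (by rw [Nat.card_zpowers, ← Subgroup.orderOf_coe, hz, pow_one])
    obtain ⟨R, hR⟩ := hzp.exists_le_sylow
    obtain ⟨g, hg⟩ := MulAction.exists_smul_eq H P R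
    have h1 : z ∈ (g • P : Sylow p H).toSubgroup := by rw [hg]; exact hR (mem_zpowers z)
    rw [Sylow.smul_def, Sylow.pointwise_smul_def, Subgroup.mem_pointwise_smul_iff_inv_smul_mem] at h1
    have h2 : QuotientGroup.mk' K ((MulAut.conj g)⁻¹ • z) ∈ V := hPV (by
      rw [hPq, Sylow.coe_mapSurjective]; exact mem_map_of_mem _ h1)
    rw [MulAut.smul_def, MulAut.conj_inv_apply, map_mul, map_mul, map_inv] at h2
    have h3 := (CfsgLib.Cores.isPGroup_pCore (G := ↥H ⧸ K) p)
    haveI : V.Normal := by rw [hV]; infer_instance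
    simpa [mul_assoc] using (inferInstance : V.Normal).conj_mem _ h2 (QuotientGroup.mk' K g)
  have htop : ∀ u : ↥H ⧸ K, u ∈ V := by
    intro u
    obtain ⟨z, rfl⟩ := QuotientGroup.mk'_surjective K u
    have hgen : Subgroup.closure ({⟨a, subset_closure (Set.mem_insert _ _)⟩,
        ⟨b, subset_closure (Set.mem_insert_of_mem _ rfl)⟩} : Set H) = ⊤ := by
      apply Subgroup.map_injective H.subtype_injective
      rw [MonoidHom.map_closure, ← MonoidHom.range_eq_map, range_subtype]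
      simp [hH, Set.image_pair]
    have hz : z ∈ V.comap (QuotientGroup.mk' K) := by
      refine (Subgroup.closure_le (V.comap (QuotientGroup.mk' K))).2 ?_ (hgen ▸ mem_top z)
      rintro w (rfl | rfl)
      · exact hmemV _ ha
      · exact hmemV _ hb
    exact hz
  have hQp : IsPGroup p (↥H ⧸ K) := fun u => by
    obtain ⟨k, hk⟩ := CfsgLib.Cores.isPGroup_pCore (G := ↥H ⧸ K) p ⟨u, htop u⟩
    exact ⟨k, congrArg Subtype.val hk⟩
  have hPtop : (Pq : Subgroup (↥H ⧸ K)) = ⊤ :=
    (Pq.3 (hQp.to_subgroup ⊤) le_top).symm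
  refine ⟨↥H ⧸ K, inferInstance, QuotientGroup.mk' K, hQp,
    fun u v => hcomm ⟨u, hPtop ▸ mem_top u⟩ ⟨v, hPtop ▸ mem_top v⟩, fun z hz hd => ?_, fun z hz => ?_⟩
  · have h1 : orderOf z ∣ Nat.card K := orderOf_dvd_natCard K ((QuotientGroup.eq_one_iff z).1 hz)
    exact hpp.coprime_iff_not_dvd.1 ((CfsgLib.Cores.coprime_card_pPrimeCore (G := H) p).symm) (hd.trans h1)
  · obtain ⟨k, hk⟩ := hQp (QuotientGroup.mk' K z)
    have h1 : orderOf (QuotientGroup.mk' K z) ∣ p ^ k := orderOf_dvd_of_pow_eq_one hk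
    rw [← orderOf_eq_one_iff]
    exact Nat.eq_one_of_dvd_coprimes ((hpp.coprime_iff_not_dvd.2 hz).pow_left k) h1 (orderOf_map_dvd _ z)

/-- The `p`-part of a product of two elements of order `p` has order at most `p`. -/
theorem Setup.product_pPart (h : Setup p G) {a b : G} (ha : orderOf a = p) (hb : orderOf b = p)
    (hreg : p ∣ orderOf (a * b)) : ∃ c : G, orderOf c = p ∧ IsPPart p (a * b) c := by
  have hpp : p.Prime := Fact.out
  obtain ⟨Q, _, π, -, hcomm, hreg1, -⟩ := h.pair_hom ha hb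
  obtain ⟨c, hc⟩ := CfsgLib.Blocks.exists_isPPart (p := p) (a * b)
  refine ⟨c, ?_, hc⟩
  obtain ⟨y, hy, hcy, ⟨k, hk⟩, hyr⟩ := hc
  let a' : ↥(Subgroup.closure ({a, b} : Set G)) := ⟨a, subset_closure (Set.mem_insert _ _)⟩
  let b' : ↥(Subgroup.closure ({a, b} : Set G)) := ⟨b, subset_closure (Set.mem_insert_of_mem _ rfl)⟩
  have ha' : a' ^ p = 1 := Subtype.ext (show a ^ p = 1 by rw [← ha]; exact pow_orderOf_eq_one a)
  have hb' : b' ^ p = 1 := Subtype.ext (show b ^ p = 1 by rw [← hb]; exact pow_orderOf_eq_one b)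
  have hpow : ¬ p ∣ orderOf ((a * b) ^ p) := by
    have h1 : π ((a' * b') ^ p) = 1 := by
      rw [map_pow, map_mul, Commute.mul_pow (hcomm _ _), ← map_pow, ← map_pow, ha', hb', map_one, one_mul]
    have h2 := hreg1 _ h1
    rwa [← Subgroup.orderOf_coe] at h2
  rcases Nat.lt_or_ge k 2 with hk2 | hk2
  · rcases k with _ | _ | k
    · exfalso
      rw [pow_zero, orderOf_eq_one_iff] at hk
      rw [← hy, hk, one_mul] at hreg
      exact hyr hreg
    · rwa [zero_add, pow_one] at hk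
    · omega
  · exfalso
    have hco : (orderOf (c ^ p)).Coprime (orderOf (y ^ p)) := by
      refine Nat.Coprime.coprime_dvd_left (orderOf_pow_dvd p) (Nat.Coprime.coprime_dvd_right (orderOf_pow_dvd p) ?_)
      rw [hk]; exact (hpp.coprime_iff_not_dvd.2 hyr).pow_left k
    apply hpow
    rw [← hy, hcy.mul_pow, (hcy.pow_pow p p).orderOf_mul_eq_mul_orderOf_of_coprime hco,
      orderOf_pow_of_dvd hpp.ne_zero (hk ▸ dvd_pow_self p (by omega)), hk]
    obtain ⟨j, rfl⟩ := Nat.exists_eq_add_of_le hk2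
    refine Dvd.dvd.mul_right ?_ _
    rw [show 2 + j = (j + 1) + 1 by omega, pow_succ (n := j + 1), Nat.mul_div_cancel _ hpp.pos]
    exact dvd_pow_self p (by omega)

/-- A `p`-regular product determines the power of the second factor. -/
theorem Setup.regular_unique (h : Setup p G) {a b : G} {i : ℕ} (ha : orderOf a = p) (hb : orderOf b = p)
    (h1 : ¬ p ∣ orderOf (a * b)) (h2 : ¬ p ∣ orderOf (a * b ^ i)) : b ^ i = b := by
  have hpp : p.Prime := Fact.out
  obtain ⟨Q, _, π, -, -, hreg1, hreg2⟩ := h.pair_hom ha hb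
  let a' : ↥(Subgroup.closure ({a, b} : Set G)) := ⟨a, subset_closure (Set.mem_insert _ _)⟩
  let b' : ↥(Subgroup.closure ({a, b} : Set G)) := ⟨b, subset_closure (Set.mem_insert_of_mem _ rfl)⟩
  have e1 : π (a' * b') = 1 := hreg2 _ (by rwa [← Subgroup.orderOf_coe])
  have e2 : π (a' * b' ^ i) = 1 := hreg2 _ (by rwa [← Subgroup.orderOf_coe])
  have e3 : π (b' ^ i) = π b' := by
    rw [map_mul] at e1 e2
    exact mul_left_cancel (e2.trans e1.symm)
  have hb1 : π b' ≠ 1 := fun e => hreg1 b' e (by rw [← Subgroup.orderOf_coe]; exact hb ▸ dvd_rfl)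
  have hb2 : orderOf (π b') = p := ((Nat.dvd_prime hpp).1 (by
    have := orderOf_map_dvd π b'
    rwa [← Subgroup.orderOf_coe b', hb] at this)).resolve_left (fun e => hb1 (orderOf_eq_one_iff.1 e))
  rw [map_pow] at e3
  have e4 : i ≡ 1 [MOD p] := by
    rw [← hb2, ← pow_eq_pow_iff_modEq, pow_one, e3]
  calc b ^ i = b ^ 1 := pow_eq_pow_iff_modEq.2 (by rwa [hb])
    _ = b := pow_one b

end CfsgLib.Transfer.PairProducts
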