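import Cfsg.Agent.Lib.Transfer.PairProducts.CyclicArith
import Cfsg.Agent.Lib.Transfer.PairProducts.Elementary
import Cfsg.Agent.Lib.SmallGroups.Basic

/-!
A simple group with a cyclic Sylow `p`-subgroup has two elements of order `p` generating a
subgroup that is not `p`-soluble.
-/

set_option autoImplicit false

noncomputable section

namespace CfsgLib.Transfer.PairProducts

open Cfsg
open scoped ComplexConjugate

universe u

variable {G : Type u} [Group G]

/-- `y ^ k` for `k` modulo the order of `y`. -/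
def zpw {q : ℕ} (y : G) (k : ZMod q) : G := y ^ k.val

section

variable {q : ℕ} [NeZero q] {y : G} (hy : orderOf y = q)
include hy

theorem zpw_natCast (m : ℕ) : zpw y (m : ZMod q) = y ^ m := by
  rw [zpw, ZMod.val_natCast, ← hy, pow_mod_orderOf]

theorem zpw_add (a b : ZMod q) : zpw y (a + b) = zpw y a * zpw y b := by
  rw [← ZMod.natCast_zmod_val a, ← ZMod.natCast_zmod_val b, ← Nat.cast_add, zpw_natCast hy,
    zpw_natCast hy, zpw_natCast hy, pow_add]

theorem zpw_mul (a b : ZMod q) : zpw y (a * b) = zpw y a ^ b.val := by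
  rw [← ZMod.natCast_zmod_val a, ← ZMod.natCast_zmod_val b, ← Nat.cast_mul, zpw_natCast hy,
    zpw_natCast hy, pow_mul, ZMod.natCast_zmod_val]

theorem zpw_inj {a b : ZMod q} (h : zpw y a = zpw y b) : a = b := by
  unfold zpw at h
  rw [pow_eq_pow_iff_modEq, hy, ← ZMod.natCast_eq_natCast_iff] at h
  simpa using h

end

theorem index_pPrimeCore_le [Finite G] {p : ℕ} [Fact p.Prime] {H K : Subgroup G} (hle : H ≤ K)
    (h : ∃ k : ℕ, (pPrimeCore p ↥K).index = p ^ k) : ∃ k : ℕ, (pPrimeCore p ↥H).index = p ^ k := by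
  obtain ⟨k, hk⟩ := h
  haveI hn : (pPrimeCore p ↥K).Normal := by
    have := CfsgLib.Cores.pPrimeCore_characteristic (G := ↥K) p
    infer_instance
  set f := Subgroup.inclusion hle
  set N := (pPrimeCore p ↥K).comap f
  haveI : N.Normal := hn.comap f
  have hN : (Nat.card N).Coprime p := by
    refine (CfsgLib.Cores.coprime_card_pPrimeCore (G := ↥K) p).coprime_dvd_left ?_
    rw [← Subgroup.card_map_of_injective (Subgroup.inclusion_injective hle) (K := N)]
    exact Subgroup.card_dvd_of_le (Subgroup.map_comap_le f _)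
  have hdvd : N.index ∣ p ^ k := by
    rw [Subgroup.index_comap, ← hk]
    exact Subgroup.relIndex_dvd_index_of_normal _ _
  obtain ⟨j, -, hj⟩ := (Nat.dvd_prime_pow Fact.out).1
    ((Subgroup.index_dvd_of_le (CfsgLib.Cores.le_pPrimeCore (p := p) hN)).trans hdvd)
  exact ⟨j, hj⟩

theorem isUnit_zmod_iff {p n q : ℕ} [Fact p.Prime] [NeZero q] (hq : q = p ^ n) (hn : n ≠ 0) (k : ZMod q) :
    IsUnit k ↔ ¬ p ∣ k.val := by
  conv_lhs => rw [← ZMod.natCast_zmod_val k]
  rw [ZMod.isUnit_iff_coprime, show k.val.Coprime q ↔ k.val.Coprime (p ^ n) from iff_of_eq (congrArg _ hq),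
    Nat.coprime_pow_right_iff (Nat.pos_of_ne_zero hn), Nat.coprime_comm,
    (Fact.out : p.Prime).coprime_iff_not_dvd]

set_option maxHeartbeats 2000000 in
/-- No simple group with a cyclic Sylow `p`-subgroup satisfies `Setup`. -/
theorem Setup.false_of_cyclic [Finite G] {p : ℕ} [Fact p.Prime] (h : Setup p G) (P : Sylow p G)
    (hP : IsCyclic ↥(P : Subgroup G)) (hdvd : p ∣ Nat.card G) : False := by
  classical
  have hpp : p.Prime := Fact.out
  haveI := h.simple
  let _ := Fintype.ofFinite G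
  obtain ⟨y, hPy⟩ := (Subgroup.isCyclic_iff_exists_zpowers_eq_top (P : Subgroup G)).1 hP
  set n := (Nat.card G).factorization p with hn
  have hn0 : n ≠ 0 := by
    have := (hpp.dvd_iff_one_le_factorization Nat.card_pos.ne').1 hdvd
    omega
  obtain ⟨q, hq⟩ : ∃ q, q = p ^ n := ⟨_, rfl⟩
  haveI : NeZero q := ⟨by rw [hq]; exact pow_ne_zero _ hpp.ne_zero⟩
  have hyq : orderOf y = q := by
    rw [← Nat.card_zpowers, hPy, Sylow.card_eq_multiplicity P, hq]
  have hp3 : 3 ≤ p := by have := hpp.two_le; have := h.ne_two; omega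
  set N0 := p ^ (n - 1) with hN0
  have hqN : q = N0 * p := by rw [hq, hN0, ← pow_succ, Nat.sub_add_cancel (Nat.pos_of_ne_zero hn0)]
  have hN0q : N0 < q := by
    rw [hqN]; exact lt_mul_of_one_lt_right (pow_pos hpp.pos _) hpp.one_lt
  set x := y ^ N0 with hx
  have hxo : orderOf x = p := by
    rw [hx, orderOf_pow_of_dvd (pow_pos hpp.pos _).ne' (hyq ▸ hqN ▸ dvd_mul_right _ _), hyq, hqN,
      Nat.mul_div_cancel_left _ (pow_pos hpp.pos _)]
  have hxP : x ∈ (P : Subgroup G) := hPy ▸ pow_mem (Subgroup.mem_zpowers y) _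
  have hzP : ∀ i : ZMod q, zpw y i ∈ (P : Subgroup G) := fun i =>
    hPy ▸ pow_mem (Subgroup.mem_zpowers y) _
  have hPz : ∀ g ∈ (P : Subgroup G), ∃ i : ZMod q, zpw y i = g := by
    intro g hg
    obtain ⟨m, rfl⟩ := mem_powers_iff_mem_zpowers.2 (hPy.symm ▸ hg : g ∈ Subgroup.zpowers y)
    exact ⟨(m : ZMod q), zpw_natCast hyq m⟩
  have hPle : ∀ i : ZMod q, (P : Subgroup G) ≤ Subgroup.centralizer ({zpw y i} : Set G) := fun i g hg => by
    obtain ⟨j, rfl⟩ := hPz g hg
    rw [Subgroup.mem_centralizer_singleton_iff, ← zpw_add hyq, ← zpw_add hyq, add_comm]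
  -- the group of units
  set E : Finset (ZMod q) := Finset.univ.filter fun k => IsConj y (zpw y k) with hE
  have hEmem : ∀ k, k ∈ E ↔ IsConj y (zpw y k) := fun k => by simp [hE]
  have h1E : (1 : ZMod q) ∈ E := by
    rw [hEmem, ← Nat.cast_one (R := ZMod q), zpw_natCast hyq, pow_one]
  have hact : ∀ k ∈ E, ∀ i, IsConj (zpw y i) (zpw y (k * i)) := by
    intro k hk i
    rw [hEmem] at hk
    obtain ⟨g, hg⟩ := isConj_iff.1 hk
    refine isConj_iff.2 ⟨g, ?_⟩
    rw [zpw_mul hyq, ← hg, conj_pow]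
    rfl
  have hmul : ∀ a ∈ E, ∀ b ∈ E, a * b ∈ E := fun a ha b hb =>
    (hEmem _).2 (((hEmem b).1 hb).trans (hact a ha b))
  have hcompl : ∀ i : ZMod q, i ≠ 0 →
      ∃ k : ℕ, (pPrimeCore p ↥(Subgroup.centralizer ({zpw y i} : Set G))).index = p ^ k := by
    intro i hi
    obtain ⟨w, hw⟩ := exists_prime_orderOf_dvd_card' (G := ↥(Subgroup.zpowers (zpw y i))) p (by
      rw [Nat.card_zpowers]
      obtain ⟨j, -, hj⟩ := (Nat.dvd_prime_pow hpp).1
        (show orderOf (zpw y i) ∣ p ^ n from (orderOf_pow_dvd i.val).trans (dvd_of_eq (hyq.trans hq)))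
      rw [hj]
      refine dvd_pow_self p fun h0 => hi (zpw_inj hyq ?_)
      rw [h0, pow_zero, orderOf_eq_one_iff] at hj
      rw [hj, ← Nat.cast_zero (R := ZMod q), zpw_natCast hyq, pow_zero])
    refine index_pPrimeCore_le (fun c hc => ?_) (h.compl (w : G) (by rw [Subgroup.orderOf_coe, hw]))
    obtain ⟨t, ht⟩ := Subgroup.mem_zpowers_iff.1 w.2
    rw [Subgroup.mem_centralizer_singleton_iff] at hc ⊢
    rw [← ht]
    exact ((show Commute c (zpw y i) from hc).zpow_right t).eq
  have hfus : ∀ i j : ZMod q, IsConj (zpw y i) (zpw y j) → ∃ k ∈ E, j = k * i := by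
    intro i j hij
    obtain ⟨g, hg⟩ := isConj_iff.1 hij
    have hS : IsPGroup p (Subgroup.zpowers (g * y * g⁻¹)) :=
      IsPGroup.of_card (n := n) (by rw [Nat.card_zpowers, ← MulAut.conj_apply, MulEquiv.orderOf_eq, hyq, hq])
    have hyi : Commute y (zpw y i) := Commute.self_pow y i.val
    have hle : Subgroup.zpowers (g * y * g⁻¹) ≤ Subgroup.centralizer ({zpw y j} : Set G) := by
      rw [Subgroup.zpowers_le, Subgroup.mem_centralizer_singleton_iff, ← hg]
      calc g * y * g⁻¹ * (g * zpw y i * g⁻¹) = g * (y * zpw y i) * g⁻¹ := by group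
        _ = g * (zpw y i * y) * g⁻¹ := by rw [hyi.eq]
        _ = g * zpw y i * g⁻¹ * (g * y * g⁻¹) := by group
    obtain ⟨c, hc, hmem⟩ := CfsgLib.Transfer.exists_conj_mem_sylow_of_le P (hPle j) hle hS
    obtain ⟨k, hk⟩ := hPz _ (hmem _ (Subgroup.mem_zpowers _))
    refine ⟨k, (hEmem k).2 (isConj_iff.2 ⟨c * g, by rw [hk]; group⟩), zpw_inj hyq ?_⟩
    rw [zpw_mul hyq, hk, conj_pow, conj_pow, show y ^ i.val = zpw y i from rfl, hg]
    rw [Subgroup.mem_centralizer_singleton_iff] at hc
    rw [hc, mul_inv_cancel_right]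
  have hinvE : ∀ a ∈ E, ∃ b ∈ E, b * a = 1 := by
    intro a ha
    obtain ⟨b, hb, hb'⟩ := hfus a 1 (by
      rw [← Nat.cast_one (R := ZMod q), zpw_natCast hyq, pow_one]
      exact ((hEmem a).1 ha).symm)
    exact ⟨b, hb, hb'.symm⟩
  have hunit : ∀ a ∈ E, IsUnit a := fun a ha => by
    obtain ⟨b, -, hb⟩ := hinvE a ha
    exact IsUnit.of_mul_eq_one b (by rw [mul_comm, hb])
  have hone : ∀ k ∈ E, ¬ IsUnit (k - 1) → k = 1 := by
    intro k hk hku
    obtain ⟨g, hg⟩ := isConj_iff.1 ((hEmem k).1 hk)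
    obtain ⟨m, hm⟩ : p ∣ (k - 1).val := by
      rwa [isUnit_zmod_iff hq hn0, not_not] at hku
    have hk1 : k = ((p * m + 1 : ℕ) : ZMod q) := by
      rw [← hm]; simp
    have hgx : g * x * g⁻¹ = x := by
      have h0 : y ^ (N0 * p) = 1 := by rw [← hqN, ← hyq, pow_orderOf_eq_one]
      rw [hx, ← conj_pow, hg, hk1, zpw_natCast hyq, ← pow_mul,
        show (p * m + 1) * N0 = N0 * p * m + N0 by ring, pow_add, pow_mul, h0, one_pow, one_mul]
    obtain ⟨j, hj⟩ := h.compl x hxo
    set Z := Subgroup.centralizer ({x} : Set G)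
    haveI : (pPrimeCore p ↥Z).Normal := by
      have := CfsgLib.Cores.pPrimeCore_characteristic (G := ↥Z) p
      infer_instance
    have hgZ : g ∈ Z := Subgroup.mem_centralizer_singleton_iff.2 (by
      calc g * x = g * x * g⁻¹ * g := by group
        _ = x * g := by rw [hgx])
    have hPx : (P : Subgroup G) ≤ Z := by
      have hh := hPle (N0 : ZMod q)
      rw [zpw_natCast hyq] at hh
      exact hh
    set π := QuotientGroup.mk' (pPrimeCore p ↥Z)
    have hQp : IsPGroup p (↥Z ⧸ pPrimeCore p ↥Z) := IsPGroup.of_card (n := j) (by rw [← Subgroup.index_eq_card, hj])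
    set PZ := (P.subtype hPx).mapSurjective (f := π) (QuotientGroup.mk'_surjective _)
    have htop : ((PZ : Sylow p (↥Z ⧸ pPrimeCore p ↥Z)) : Subgroup (↥Z ⧸ pPrimeCore p ↥Z)) = ⊤ := (PZ.3 (hQp.to_subgroup ⊤) le_top).symm
    have hcomm : ∀ u v : ↥Z ⧸ pPrimeCore p ↥Z, u * v = v * u := by
      intro u v
      have hu : u ∈ (PZ : Subgroup _) := htop ▸ Subgroup.mem_top u
      have hv : v ∈ (PZ : Subgroup _) := htop ▸ Subgroup.mem_top v
      rw [Sylow.coe_mapSurjective] at hu hv
      obtain ⟨u', hu', rfl⟩ := hu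
      obtain ⟨v', hv', rfl⟩ := hv
      rw [← map_mul, ← map_mul]
      exact congrArg π (Subtype.ext (h.sylowAb _ P.isPGroup' _ hu' _ hv'))
    have hyZ : y ∈ Z := hPx (hPy ▸ Subgroup.mem_zpowers y)
    set g' : ↥Z := ⟨g, hgZ⟩
    set y' : ↥Z := ⟨y, hyZ⟩
    have hK : g' * y' * g'⁻¹ * y'⁻¹ ∈ pPrimeCore p ↥Z := by
      rw [← QuotientGroup.eq_one_iff]
      show π (g' * y' * g'⁻¹ * y'⁻¹) = 1
      rw [map_mul, map_mul, map_mul, map_inv, map_inv, hcomm (π g') (π y'), mul_inv_cancel_right, mul_inv_cancel]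
    have hmemP : g * y * g⁻¹ * y⁻¹ ∈ (P : Subgroup G) :=
      mul_mem (hg ▸ hzP k) (inv_mem (hPy ▸ Subgroup.mem_zpowers y))
    obtain ⟨l, hl⟩ := P.isPGroup' ⟨_, hmemP⟩
    have h1 : orderOf (g * y * g⁻¹ * y⁻¹) ∣ p ^ l :=
      orderOf_dvd_of_pow_eq_one (congrArg Subtype.val hl)
    have h2 : orderOf (g * y * g⁻¹ * y⁻¹) ∣ Nat.card (pPrimeCore p ↥Z) := by
      have := Subgroup.orderOf_dvd_natCard _ hK
      rwa [← Subgroup.orderOf_coe] at this
    have h3 := orderOf_eq_one_iff.1 (Nat.eq_one_of_dvd_coprimes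
      ((CfsgLib.Cores.coprime_card_pPrimeCore (G := ↥Z) p).symm.pow_left l) h1 h2)
    rw [mul_inv_eq_one, hg] at h3
    refine zpw_inj hyq ?_
    rw [h3, ← Nat.cast_one (R := ZMod q), zpw_natCast hyq, pow_one]
  have hfree : ∀ a ∈ E, ∀ b ∈ E, a ≠ b → IsUnit (a - b) := by
    intro a ha b hb hne
    by_contra hu
    obtain ⟨b', hb', hbb⟩ := hinvE b hb
    refine hne ?_
    have h1 : b' * a = 1 := hone _ (hmul b' hb' a ha) (by
      rw [show b' * a - 1 = b' * (a - b) by rw [mul_sub, hbb], IsUnit.mul_iff]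
      exact fun hh => hu hh.2)
    calc a = b * (b' * a) := by rw [← mul_assoc, mul_comm b, hbb, one_mul]
      _ = b := by rw [h1, mul_one]
  have he2 : 2 ≤ E.card := by
    obtain ⟨nn, hnN, hnC⟩ := SetLike.not_le_iff_exists.1
      (CfsgLib.SmallGroups.not_normalizer_le_centralizer h.nonab hdvd P)
    have hyP : y ∈ (P : Subgroup G) := hPy ▸ Subgroup.mem_zpowers y
    obtain ⟨k, hk⟩ := hPz _ ((Subgroup.mem_normalizer_iff.1 hnN y).1 hyP)
    have hne : k ≠ 1 := by
      rintro rfl
      rw [← Nat.cast_one (R := ZMod q), zpw_natCast hyq, pow_one] at hk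
      refine hnC (Subgroup.mem_centralizer_iff.2 fun g hg => ?_)
      obtain ⟨i, rfl⟩ := Subgroup.mem_zpowers_iff.1 (hPy.symm ▸ hg : g ∈ Subgroup.zpowers y)
      exact ((show Commute nn y by rw [commute_iff_eq]; exact mul_inv_eq_iff_eq_mul.1 hk.symm).zpow_right i).eq.symm
    calc 2 = ({1, k} : Finset (ZMod q)).card := (Finset.card_pair hne.symm).symm
      _ ≤ E.card := Finset.card_le_card (by
        intro z hz
        rcases Finset.mem_insert.1 hz with rfl | hz
        · exact h1E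
        · rw [Finset.mem_singleton] at hz
          subst hz
          exact (hEmem _).2 (isConj_iff.2 ⟨nn, hk.symm⟩))
  have hep : E.card ≤ p - 1 := by
    let f : ZMod q →+* ZMod p := ZMod.castHom (hq ▸ dvd_pow_self p hn0) (ZMod p)
    calc E.card = (E.image f).card := (Finset.card_image_of_injOn fun a ha b hb hab => by
          by_contra hne
          have hu := (hfree a ha b hb hne).map f
          rw [map_sub, hab, sub_self] at hu
          exact not_isUnit_zero hu).symm
      _ ≤ (Finset.univ.erase (0 : ZMod p)).card := Finset.card_le_card (by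
          intro z hz
          obtain ⟨a, ha, rfl⟩ := Finset.mem_image.1 hz
          exact Finset.mem_erase.2 ⟨((hunit a ha).map f).ne_zero, Finset.mem_univ _⟩)
      _ = p - 1 := by rw [Finset.card_erase_of_mem (Finset.mem_univ _), Finset.card_univ, ZMod.card]
  set e := E.card with he
  -- orbits
  let O : ZMod q → Finset (ZMod q) := fun i => E.image (fun k => k * i)
  have hOcard : ∀ i, i ≠ 0 → (O i).card = e := fun i hi => by
    refine Finset.card_image_of_injOn fun a ha b hb hab => by_contra fun hne => hi ?_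
    have h0 : (a - b) * i = 0 := by rw [sub_mul, sub_eq_zero]; exact hab
    exact (hfree a ha b hb hne).mul_right_eq_zero.1 h0
  have hOmem : ∀ i j, j ∈ O i ↔ IsConj (zpw y i) (zpw y j) := fun i j => by
    simp only [O, Finset.mem_image]
    exact ⟨fun ⟨k, hk, he⟩ => he ▸ hact k hk i, fun hh => by
      obtain ⟨k, hk, he⟩ := hfus i j hh
      exact ⟨k, hk, he.symm⟩⟩
  -- columns of the principal block
  obtain ⟨M, hM⟩ := CfsgLib.Blocks.exists_isPModular hpp
  haveI : M.IsMaximal := hM.2.1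
  have hfacC : ∀ i, (Nat.card ↥(Subgroup.centralizer ({zpw y i} : Set G))).factorization p = n := fun i => by
    refine le_antisymm ?_ ?_
    · exact (hpp.pow_dvd_iff_le_factorization Nat.card_pos.ne').1
        ((Nat.ordProj_dvd _ _).trans (Subgroup.card_subgroup_dvd_card _))
    · refine (hpp.pow_dvd_iff_le_factorization Nat.card_pos.ne').1 ?_
      rw [hn, ← Sylow.card_eq_multiplicity P]
      exact Subgroup.card_dvd_of_le (hPle i)
  have hppow : ∀ i : ZMod q, ∃ k : ℕ, orderOf (zpw y i) = p ^ k := fun i => by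
    obtain ⟨j, -, hj⟩ := (Nat.dvd_prime_pow hpp).1
      (show orderOf (zpw y i) ∣ p ^ n from (orderOf_pow_dvd i.val).trans (dvd_of_eq (hyq.trans hq)))
    exact ⟨j, hj⟩
  have hcol : ∀ i j : ZMod q, i ≠ 0 →
      ∑ χ : IrrCharacter G, (if χ ∈ principalBlock M G then
        (χ : G → ℂ) (zpw y i) * conj ((χ : G → ℂ) (zpw y j)) else 0) =
      if j ∈ O i then (q : ℂ) else 0 := by
    intro i j hi
    by_cases hij : j ∈ O i
    · rw [if_pos hij]
      obtain ⟨g, hg⟩ := isConj_iff.1 ((hOmem i j).1 hij)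
      have ecl : ∀ χ : IrrCharacter G, (χ : G → ℂ) (zpw y j) = (χ : G → ℂ) (zpw y i) := fun χ => by
        rw [← hg]; exact CfsgLib.Char.isClassFunction_of_isIrr χ.2 _ g
      simp only [ecl]
      let _ := Fintype.ofFinite ↥(Subgroup.centralizer ({zpw y i} : Set G))
      have hs := CfsgLib.Blocks.sum_principal_section_complement (M := M) hM (hppow i) (hcompl i hi)
        (y := (1 : ↥(Subgroup.centralizer ({zpw y i} : Set G)))) (by rw [orderOf_one]; exact hpp.not_dvd_one)
      simp only [OneMemClass.coe_one, mul_one] at hs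
      rw [hs, hfacC, hq]
    · rw [if_neg hij]
      exact CfsgLib.CharBlocks.principal_column_ne hM (hppow i) (hppow j) fun hh => hij ((hOmem i j).2 hh)
  -- multiplicities and the half bound
  set ψ : AddChar (ZMod q) ℂ := ZMod.stdAddChar with hψ
  have hψp : ψ.IsPrimitive := ZMod.isPrimitive_stdAddChar q
  have hqC : (q : ℂ) ≠ 0 := by exact_mod_cast NeZero.ne q
  have half : ∀ χ : IrrCharacter G, χ ∈ principalBlock M G → χ ≠ CfsgLib.Char.irrOne →
      ∃ m d : ℕ, (χ : G → ℂ) 1 = d ∧ 2 * m ≤ d ∧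
        ∑ j ∈ Finset.range p, (χ : G → ℂ) (x ^ j) = (p : ℂ) * m := by
    intro χ hχ hne
    obtain ⟨d, ρ, hirr, hρ⟩ := id χ.2
    obtain ⟨z, hz, hzk⟩ := CfsgLib.Char.exists_roots_char_pow ρ y
    have hprimω : IsPrimitiveRoot (ψ 1) q := by
      refine IsPrimitiveRoot.mk_of_lt _ (Nat.pos_of_ne_zero (NeZero.ne q)) ?_ fun l hl hlq he1 => ?_
      · rw [← AddChar.map_nsmul_eq_pow, nsmul_eq_mul, ZMod.natCast_self, zero_mul, AddChar.map_zero_eq_one]
      · rw [← AddChar.map_nsmul_eq_pow, nsmul_eq_mul, mul_one, ← AddChar.map_zero_eq_one ψ] at he1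
        have h0 := congrArg ZMod.val (ZMod.injective_stdAddChar he1)
        rw [ZMod.val_natCast, Nat.mod_eq_of_lt hlq, ZMod.val_zero] at h0
        omega
    have ht : ∀ l, ∃ t : ZMod q, ψ t = z l := fun l => by
      obtain ⟨i, -, hi⟩ := hprimω.eq_pow_of_pow_eq_one (hyq ▸ hz l)
      exact ⟨(i : ZMod q), by rw [← hi, ← AddChar.map_nsmul_eq_pow, nsmul_eq_mul, mul_one]⟩
    choose t htl using ht
    set μ : ZMod q → ℕ := fun k => (Finset.univ.filter fun l => t l = k).card with hμ
    have hval : ∀ i : ZMod q, (χ : G → ℂ) (zpw y i) = ∑ k, (μ k : ℂ) * ψ (k * i) := by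
      intro i
      rw [← hρ, zpw, hzk, ← Finset.sum_fiberwise Finset.univ t]
      refine Finset.sum_congr rfl fun k _ => ?_
      rw [Finset.sum_congr rfl fun l hl => ?_, Finset.sum_const, nsmul_eq_mul]
      rw [← htl, (Finset.mem_filter.1 hl).2, ← AddChar.map_nsmul_eq_pow, nsmul_eq_mul, ZMod.natCast_zmod_val,
        mul_comm]
    have hfour : ∀ k, (q : ℂ) * μ k = ∑ i, (χ : G → ℂ) (zpw y i) * ψ (-(k * i)) := by
      intro k
      simp only [hval, Finset.sum_mul]
      rw [Finset.sum_comm, Finset.sum_eq_single k]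
      · rw [Finset.sum_congr rfl fun i _ => show (μ k : ℂ) * ψ (k * i) * ψ (-(k * i)) = μ k by
          rw [mul_assoc, ← AddChar.map_add_eq_mul, add_neg_cancel, AddChar.map_zero_eq_one, mul_one],
          Finset.sum_const, Finset.card_univ, ZMod.card, nsmul_eq_mul]
      · intro l _ hl
        rw [Finset.sum_congr rfl fun i _ => show (μ l : ℂ) * ψ (l * i) * ψ (-(k * i)) = μ l * ψ (i * (l - k)) by
          rw [mul_assoc, ← AddChar.map_add_eq_mul]; congr 2; ring,
          ← Finset.mul_sum, AddChar.sum_mulShift _ hψp, if_neg (sub_ne_zero.2 hl), Nat.cast_zero, mul_zero]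
      · simp
    have hinv : ∀ k ∈ E, ∀ i, μ (k * i) = μ i := by
      intro a ha i
      have hcl : ∀ l : ZMod q, (χ : G → ℂ) (zpw y (a * l)) = (χ : G → ℂ) (zpw y l) := fun l => by
        obtain ⟨g, hg⟩ := isConj_iff.1 (hact a ha l)
        rw [← hg]; exact CfsgLib.Char.isClassFunction_of_isIrr χ.2 _ g
      have h1 : (q : ℂ) * μ (a * i) = (q : ℂ) * μ i := by
        rw [hfour, hfour, ← Equiv.sum_comp (Units.mulLeft (hunit a ha).unit) fun l => (χ : G → ℂ) (zpw y l) * ψ (-(i * l))]
        refine Finset.sum_congr rfl fun l _ => ?_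
        show _ = (χ : G → ℂ) (zpw y (a * l)) * ψ (-(i * (a * l)))
        rw [hcl]; congr 2; ring
      exact_mod_cast mul_left_cancel₀ hqC h1
    have hsum : (χ : G → ℂ) 1 = ((∑ k, μ k : ℕ) : ℂ) := by
      have h0 := hval 0
      rw [zpw, ZMod.val_zero, pow_zero] at h0
      rw [h0]; simp
    have hpars : ∑ i : ZMod q, (χ : G → ℂ) (zpw y i) * conj ((χ : G → ℂ) (zpw y i)) =
        (q : ℂ) * ∑ k, (μ k : ℂ) ^ 2 := by
      rw [Finset.mul_sum]
      calc ∑ i, (χ : G → ℂ) (zpw y i) * conj ((χ : G → ℂ) (zpw y i))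
          = ∑ i, ∑ k, (μ k : ℂ) * ((χ : G → ℂ) (zpw y i) * ψ (-(k * i))) := by
            refine Finset.sum_congr rfl fun i _ => ?_
            conv_lhs => rw [hval i]; arg 2; rw [map_sum]
            rw [Finset.mul_sum]
            refine Finset.sum_congr rfl fun k _ => ?_
            rw [map_mul, map_natCast, AddChar.map_neg_eq_conj, hval i]
            ring
        _ = ∑ k, (q : ℂ) * (μ k : ℂ) ^ 2 := by
            rw [Finset.sum_comm]
            refine Finset.sum_congr rfl fun k _ => ?_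
            rw [← Finset.mul_sum, ← hfour]; ring
    -- the column bound
    set I := (Finset.univ : Finset (ZMod q)).erase 0 with hI
    set a : ZMod q → ℂ := fun i => (χ : G → ℂ) (zpw y i) with ha
    set A : IrrCharacter G → ℂ := fun η => ∑ i ∈ I, conj (a i) * (η : G → ℂ) (zpw y i) with hA
    set W : ℝ := ∑ i ∈ I, Complex.normSq (a i) with hW
    have hAA : ∑ η : IrrCharacter G, (if η ∈ principalBlock M G then A η * conj (A η) else 0) =
        ((q * e * W : ℝ) : ℂ) := by
      calc ∑ η : IrrCharacter G, (if η ∈ principalBlock M G then A η * conj (A η) else 0)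
          = ∑ i ∈ I, ∑ j ∈ I, conj (a i) * a j * ∑ η : IrrCharacter G, (if η ∈ principalBlock M G then
              (η : G → ℂ) (zpw y i) * conj ((η : G → ℂ) (zpw y j)) else 0) := by
            simp only [Finset.mul_sum]
            rw [Finset.sum_congr rfl fun i _ => Finset.sum_comm, Finset.sum_comm]
            refine Finset.sum_congr rfl fun η _ => ?_
            split_ifs
            · simp only [hA, map_sum, map_mul, Complex.conj_conj, Finset.sum_mul, Finset.mul_sum]
              rw [Finset.sum_comm]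
              exact Finset.sum_congr rfl fun i _ => Finset.sum_congr rfl fun j _ => by ring
            · simp
        _ = ∑ i ∈ I, (q : ℂ) * e * (a i * conj (a i)) := by
            refine Finset.sum_congr rfl fun i hi => ?_
            have hi0 : i ≠ 0 := (Finset.mem_erase.1 hi).1
            rw [Finset.sum_congr rfl fun j _ => by rw [hcol i j hi0, mul_ite, mul_zero], ← Finset.sum_filter]
            have e1 : I.filter (fun j => j ∈ O i) = O i := by
              ext j
              simp only [Finset.mem_filter, hI, Finset.mem_erase, Finset.mem_univ, and_true,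
                and_iff_right_iff_imp]
              intro hj hj0
              subst hj0
              obtain ⟨k, hk, hk0⟩ := Finset.mem_image.1 hj
              exact hi0 ((hunit k hk).mul_right_eq_zero.1 hk0)
            rw [e1, Finset.sum_congr rfl fun j hj => show conj (a i) * a j * (q : ℂ) = conj (a i) * a i * q by
              obtain ⟨g, hg⟩ := isConj_iff.1 ((hOmem i j).1 hj)
              rw [show a j = a i from (congrArg (χ : G → ℂ) hg.symm).trans
                (CfsgLib.Char.isClassFunction_of_isIrr χ.2 _ g)],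
              Finset.sum_const, hOcard i hi0, nsmul_eq_mul]
            ring
        _ = _ := by
            rw [hW]; push_cast
            rw [Finset.mul_sum]
            exact Finset.sum_congr rfl fun i _ => by rw [Complex.mul_conj]
    have hWA : A χ = (W : ℂ) := by
      rw [hA, hW]; push_cast
      exact Finset.sum_congr rfl fun i _ => by rw [mul_comm]; exact Complex.mul_conj _
    have hWle : W ≤ q * e := by
      have h2 := congrArg Complex.re hAA
      rw [Complex.re_sum, Complex.ofReal_re] at h2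
      have hF : ∀ η : IrrCharacter G, 0 ≤ (if η ∈ principalBlock M G then A η * conj (A η) else 0).re := fun η => by
        split_ifs
        · rw [Complex.mul_conj, Complex.ofReal_re]; exact Complex.normSq_nonneg _
        · simp
      have h3 := Finset.single_le_sum (fun η _ => hF η) (Finset.mem_univ χ)
      rw [h2, if_pos hχ, hWA, Complex.conj_ofReal, ← Complex.ofReal_mul, Complex.ofReal_re] at h3
      have hW0 : 0 ≤ W := Finset.sum_nonneg fun i _ => Complex.normSq_nonneg _
      rcases eq_or_lt_of_le hW0 with h0 | h0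
      · rw [← h0]; positivity
      · exact le_of_mul_le_mul_right h3 h0
    have hD : (q : ℤ) * ∑ i, (μ i : ℤ) ^ 2 - (∑ i, (μ i : ℤ)) ^ 2 ≤ E.card * q := by
      have h4 := congrArg Complex.re hpars
      rw [← Finset.add_sum_erase _ _ (Finset.mem_univ (0 : ZMod q)), ← hI, Complex.add_re, Complex.re_sum] at h4
      have h5 : ((χ : G → ℂ) (zpw y (0 : ZMod q)) * conj ((χ : G → ℂ) (zpw y (0 : ZMod q)))).re =
          ((∑ i, μ i : ℕ) : ℝ) ^ 2 := by
        rw [zpw, ZMod.val_zero, pow_zero, hsum, Complex.conj_natCast]; simp [sq]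
      have h6 : ∑ i ∈ I, ((χ : G → ℂ) (zpw y i) * conj ((χ : G → ℂ) (zpw y i))).re = W := by
        rw [hW]; exact Finset.sum_congr rfl fun i _ => by rw [Complex.mul_conj, Complex.ofReal_re]
      rw [h5, h6, show ((q : ℂ) * ∑ k, (μ k : ℂ) ^ 2).re = (q : ℝ) * ∑ k, (μ k : ℝ) ^ 2 by
        rw [show (q : ℂ) * ∑ k, (μ k : ℂ) ^ 2 = (((q : ℝ) * ∑ k, (μ k : ℝ) ^ 2 : ℝ) : ℂ) by push_cast; rfl,
          Complex.ofReal_re]] at h4
      have h7 : (q : ℝ) * ∑ k, (μ k : ℝ) ^ 2 - (∑ i, (μ i : ℝ)) ^ 2 ≤ (E.card : ℝ) * q := by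
        push_cast at h4; rw [← he]; linarith
      exact_mod_cast h7
    have hxv : ∀ j : ℕ, x ^ j = zpw y (((N0 * j : ℕ)) : ZMod q) := fun j => by
      rw [zpw_natCast hyq, hx, ← pow_mul]
    have hkN : ∀ k : ZMod q, k * (N0 : ZMod q) = 0 ↔ ¬ IsUnit k := by
      intro k
      rw [isUnit_zmod_iff hq hn0, not_not]
      conv_lhs => rw [← ZMod.natCast_zmod_val k, ← Nat.cast_mul, ZMod.natCast_eq_zero_iff,
        show k.val * N0 = N0 * k.val from mul_comm _ _]
      rw [show (q ∣ N0 * k.val) ↔ (N0 * p ∣ N0 * k.val) by rw [← hqN]]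
      exact Nat.mul_dvd_mul_iff_left (pow_pos hpp.pos _)
    have hprim : ∃ i, IsUnit i ∧ μ i ≠ 0 := by
      by_contra hcon
      push Not at hcon
      have hx1 := eq_one_of_apply_eq_degree h.simple hne (x := x) (by
        have e1 : x = zpw y (N0 : ZMod q) := by rw [zpw_natCast hyq]
        rw [e1, hval, hsum, Nat.cast_sum]
        refine Finset.sum_congr rfl fun k _ => ?_
        by_cases hk : IsUnit k
        · rw [hcon k hk]; simp
        · rw [(hkN k).2 hk, AddChar.map_zero_eq_one, mul_one])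
      rw [hx1, orderOf_one] at hxo
      exact hpp.one_lt.ne hxo
    refine ⟨∑ i ∈ Finset.univ.filter (fun i : ZMod q => ¬ IsUnit i), μ i, ∑ i, μ i, hsum,
      nonunit_le_half h.ne_two hq hn0 μ E he2 hep h1E hmul hunit hfree hinv hD hprim, ?_⟩
    rw [Finset.sum_congr rfl fun j _ => by rw [hxv j, hval], Finset.sum_comm, Nat.cast_sum, Finset.mul_sum,
      Finset.sum_filter]
    refine Finset.sum_congr rfl fun k _ => ?_
    rw [← Finset.mul_sum, Finset.sum_congr rfl fun j _ => show ψ (k * ((N0 * j : ℕ) : ZMod q)) = ψ (k * (N0 : ZMod q)) ^ j by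
      rw [← AddChar.map_nsmul_eq_pow, nsmul_eq_mul]; push_cast; ring_nf]
    by_cases hk : IsUnit k
    · rw [if_neg (not_not.2 hk)]
      have hr : ψ (k * (N0 : ZMod q)) ^ p = 1 := by
        rw [← AddChar.map_nsmul_eq_pow, nsmul_eq_mul, mul_left_comm, ← Nat.cast_mul, mul_comm p, ← hqN,
          ZMod.natCast_self, mul_zero, AddChar.map_zero_eq_one]
      have hr1 : ψ (k * (N0 : ZMod q)) ≠ 1 := fun h1 => by
        rw [← AddChar.map_zero_eq_one ψ] at h1
        exact ((hkN k).1 (ZMod.injective_stdAddChar h1)) hk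
      rw [geom_sum_eq hr1, hr, sub_self, zero_div, mul_zero]
    · rw [if_pos hk, (hkN k).2 hk, AddChar.map_zero_eq_one]
      simp [mul_comm]
  -- the elements of order `p`
  set C := Finset.univ.filter (fun c : G => orderOf c = p) with hCdef
  have hC : ∀ c, c ∈ C ↔ orderOf c = p := fun c => by simp [hCdef]
  have hzp : ∀ c ∈ (P : Subgroup G), orderOf c = p → c ∈ Subgroup.zpowers x := by
    intro c hc ho
    obtain ⟨i, rfl⟩ := hPz c hc
    have h1 : y ^ (i.val * p) = 1 := by
      have h2 := pow_orderOf_eq_one (zpw y i)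
      rwa [ho, zpw, ← pow_mul] at h2
    have h3 : N0 * p ∣ i.val * p := (dvd_of_eq (hqN.symm.trans hyq.symm)).trans (orderOf_dvd_of_pow_eq_one h1)
    obtain ⟨r, hr⟩ := Nat.dvd_of_mul_dvd_mul_right hpp.pos h3
    exact Subgroup.mem_zpowers_iff.2 ⟨r, by rw [zpow_natCast, hx, zpw, hr, pow_mul]⟩
  have hpow : ∀ c, orderOf c = p → ∃ (g : G) (i : ℕ), g * x ^ i * g⁻¹ = c := by
    intro c ho
    obtain ⟨g, hg⟩ := CfsgLib.Transfer.exists_conj_mem_sylow P
      (IsPGroup.of_card (G := ↥(Subgroup.zpowers c)) (n := 1) (by rw [Nat.card_zpowers, ho, pow_one]))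
    have h1 := hzp _ (hg c (Subgroup.mem_zpowers c)) (by rw [← MulAut.conj_apply, MulEquiv.orderOf_eq, ho])
    obtain ⟨i, hi⟩ := mem_powers_iff_mem_zpowers.2 h1
    exact ⟨g⁻¹, i, by rw [show x ^ i = g * c * g⁻¹ from hi]; group⟩
  set X := (Finset.range p).erase 0 with hX
  have hXC : ∀ j ∈ X, x ^ j ∈ C := fun j hj => by
    rw [hC, Nat.Coprime.orderOf_pow, hxo]
    rw [hxo]
    exact hpp.coprime_iff_not_dvd.2 fun hd => by
      have := Nat.le_of_dvd (by have := (Finset.mem_erase.1 hj).1; omega) hd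
      have := Finset.mem_range.1 (Finset.mem_erase.1 hj).2
      omega
  have hinjX : Set.InjOn (fun j => (((N0 * j : ℕ)) : ZMod q)) ↑X := by
    intro a ha b hb hab
    simp only [Finset.mem_coe, hX, Finset.mem_erase, Finset.mem_range] at ha hb
    have h1 := (ZMod.natCast_eq_natCast_iff' _ _ _).1 hab
    rw [Nat.mod_eq_of_lt (by rw [hqN]; exact Nat.mul_lt_mul_of_pos_left ha.2 (pow_pos hpp.pos _)),
      Nat.mod_eq_of_lt (by rw [hqN]; exact Nat.mul_lt_mul_of_pos_left hb.2 (pow_pos hpp.pos _))] at h1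
    exact Nat.eq_of_mul_eq_mul_left (pow_pos hpp.pos _) h1
  have hpartners : ∀ c ∈ C, (X.filter fun j => IsConj (x ^ j) c).card = e := by
    intro c hc
    obtain ⟨g, i, hgi⟩ := hpow c ((hC c).1 hc)
    set i' : ZMod q := ((N0 * i : ℕ) : ZMod q) with hi'
    have hxi : x ^ i = zpw y i' := by rw [zpw_natCast hyq, hx, ← pow_mul]
    have hi0 : i' ≠ 0 := fun h0 => by
      have h1 := (hC c).1 hc
      rw [← hgi, hxi, h0, zpw, ZMod.val_zero, pow_zero, mul_one, mul_inv_cancel, orderOf_one] at h1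
      exact hpp.one_lt.ne h1
    rw [← hOcard i' hi0, ← Finset.card_image_of_injOn (hinjX.mono (Finset.coe_subset.2 (Finset.filter_subset _ _)))]
    congr 1
    ext k
    simp only [Finset.mem_image, Finset.mem_filter]
    constructor
    · rintro ⟨j, ⟨-, hj⟩, rfl⟩
      rw [hOmem, ← hxi, zpw_natCast hyq, pow_mul, ← hx]
      exact ((isConj_iff.2 ⟨g, hgi⟩).trans hj.symm)
    · intro hk
      have hord : orderOf (zpw y k) = p := by
        obtain ⟨g', hg'⟩ := isConj_iff.1 ((hOmem i' k).1 hk)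
        rw [← hg', ← MulAut.conj_apply, MulEquiv.orderOf_eq, ← hxi]
        have h1 := (hC c).1 hc
        rwa [← hgi, ← MulAut.conj_apply, MulEquiv.orderOf_eq] at h1
      obtain ⟨j, hj⟩ := mem_powers_iff_mem_zpowers.2 (hzp _ (hzP k) hord)
      have hj' : x ^ (j % p) = zpw y k := by rw [← hxo, pow_mod_orderOf]; exact hj
      refine ⟨j % p, ⟨Finset.mem_erase.2 ⟨fun h0 => ?_, Finset.mem_range.2 (Nat.mod_lt _ hpp.pos)⟩, ?_⟩, ?_⟩
      · rw [h0, pow_zero] at hj'
        rw [← hj', orderOf_one] at hord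
        exact hpp.one_lt.ne hord
      · have h1 := (hOmem i' k).1 hk
        rw [← hxi, ← hj'] at h1
        exact h1.symm.trans (isConj_iff.2 ⟨g, hgi⟩)
      · refine zpw_inj hyq ?_
        rw [zpw_natCast hyq, pow_mul, ← hx, hj']
  set g0 := Nat.card {c : G // IsConj x c} with hg0
  have hclass : ∀ j ∈ X, (C.filter fun c => IsConj (x ^ j) c).card = g0 := by
    intro j hj
    have h1 : (C.filter fun c => IsConj (x ^ j) c).card = Nat.card {c : G // IsConj (x ^ j) c} := by
      rw [Nat.card_eq_fintype_card, Fintype.card_subtype]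
      congr 1
      ext c
      simp only [Finset.mem_filter, Finset.mem_univ, true_and, and_iff_right_iff_imp]
      intro hh
      obtain ⟨g, rfl⟩ := isConj_iff.1 hh
      rw [hC, ← MulAut.conj_apply, MulEquiv.orderOf_eq]; exact (hC _).1 (hXC j hj)
    have hcz : Subgroup.centralizer ({x ^ j} : Set G) = Subgroup.centralizer ({x} : Set G) := by
      have ho := (hC _).1 (hXC j hj)
      have e1 : Subgroup.zpowers (x ^ j) = Subgroup.zpowers x :=
        Subgroup.eq_of_le_of_card_ge (Subgroup.zpowers_le.2 (pow_mem (Subgroup.mem_zpowers x) j))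
          (by rw [Nat.card_zpowers, Nat.card_zpowers, hxo, ho])
      obtain ⟨i, hi⟩ := Subgroup.mem_zpowers_iff.1 (e1.symm ▸ Subgroup.mem_zpowers x : x ∈ Subgroup.zpowers (x ^ j))
      refine le_antisymm (fun c hc => ?_) (fun c hc => ?_) <;> rw [Subgroup.mem_centralizer_singleton_iff] at hc ⊢
      · rw [← hi]; exact ((show Commute c (x ^ j) from hc).zpow_right i).eq
      · exact ((show Commute c x from hc).pow_right j).eq
    rw [h1, hg0, CfsgLib.Char.card_isConj_eq_index, CfsgLib.Char.card_isConj_eq_index, hcz]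
  have hdouble : ∀ χ : IrrCharacter G,
      (e : ℂ) * ∑ c ∈ C, (χ : G → ℂ) c = (g0 : ℂ) * ∑ j ∈ X, (χ : G → ℂ) (x ^ j) := by
    intro χ
    calc (e : ℂ) * ∑ c ∈ C, (χ : G → ℂ) c
        = ∑ c ∈ C, ∑ j ∈ X.filter (fun j => IsConj (x ^ j) c), (χ : G → ℂ) c := by
          rw [Finset.mul_sum]
          exact Finset.sum_congr rfl fun c hc => by rw [Finset.sum_const, hpartners c hc, nsmul_eq_mul]
      _ = ∑ j ∈ X, ∑ c ∈ C.filter (fun c => IsConj (x ^ j) c), (χ : G → ℂ) c := by
          simp only [Finset.sum_filter]; rw [Finset.sum_comm]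
      _ = _ := by
          rw [Finset.mul_sum]
          refine Finset.sum_congr rfl fun j hj => ?_
          rw [Finset.sum_congr rfl fun c hc => show (χ : G → ℂ) c = (χ : G → ℂ) (x ^ j) by
            obtain ⟨g, rfl⟩ := isConj_iff.1 (Finset.mem_filter.1 hc).2
            exact CfsgLib.Char.isClassFunction_of_isIrr χ.2 _ g, Finset.sum_const, hclass j hj, nsmul_eq_mul]
  have hcardX : X.card = p - 1 := by
    rw [hX, Finset.card_erase_of_mem (Finset.mem_range.2 hpp.pos), Finset.card_range]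
  have heN : e * C.card = g0 * (p - 1) := by
    have h1 := hdouble CfsgLib.Char.irrOne
    simp only [CfsgLib.Char.irrOne_apply, Finset.sum_const, nsmul_eq_mul, mul_one, hcardX] at h1
    exact_mod_cast h1
  have hfacx : (Nat.card ↥(Subgroup.centralizer ({x} : Set G))).factorization p = n := by
    have := hfacC ((N0 : ℕ) : ZMod q)
    rwa [zpw_natCast hyq] at this
  have hpR : (3 : ℝ) ≤ p := by exact_mod_cast hp3
  have heR : (2 : ℝ) ≤ e := by exact_mod_cast he2
  have heNR : (e : ℝ) * C.card = g0 * ((p : ℝ) - 1) := by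
    rw [← Nat.cast_one (R := ℝ), ← Nat.cast_sub (show 1 ≤ p by omega)]
    exact_mod_cast heN
  refine h.false_of_bound hM hxo hpow C hC (((p : ℝ) - 2) / (2 * ((p : ℝ) - 1)))
    (div_nonneg (by linarith) (by linarith)) ((q : ℝ) * e / ((p : ℝ) - 1)) ?_ ?_ ?_
  · rw [hfacx, ← hq, ← hg0, div_mul_eq_mul_div, div_eq_iff (by linarith)]
    linear_combination (q : ℝ) * heNR
  · set Q := (q : ℝ) * e / ((p : ℝ) - 1) with hQ
    have hqp : (p : ℝ) ≤ q := by
      rw [hqN]; exact_mod_cast Nat.le_mul_of_pos_left p (pow_pos hpp.pos _)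
    have hQp : (p : ℝ) ≤ Q * ((p : ℝ) - 2) := by
      rw [hQ, div_mul_eq_mul_div, le_div_iff₀ (by linarith)]
      have h2 : (p : ℝ) * 2 ≤ q * e := mul_le_mul hqp heR (by norm_num) (Nat.cast_nonneg _)
      have h3 := mul_le_mul_of_nonneg_right h2 (show (0 : ℝ) ≤ (p : ℝ) - 2 by linarith)
      have h4 := mul_le_mul_of_nonneg_left (show (p : ℝ) - 1 ≤ 2 * ((p : ℝ) - 2) by linarith)
        (show (0 : ℝ) ≤ p by linarith)
      linarith
    have key : Q * ((p : ℝ) - 2) / ((p : ℝ) - 1) - (1 + ((p : ℝ) - 2) / (2 * ((p : ℝ) - 1)) * (Q - 1)) =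
        (Q * ((p : ℝ) - 2) - p) / (2 * ((p : ℝ) - 1)) := by
      field_simp [show (p : ℝ) - 1 ≠ 0 by linarith]
      ring
    have h0 : 0 ≤ (Q * ((p : ℝ) - 2) - p) / (2 * ((p : ℝ) - 1)) := div_nonneg (by linarith) (by linarith)
    linarith
  · intro χ hχ hne
    obtain ⟨m, d, hd, hmd, hs⟩ := half χ hχ hne
    have hd' := hdouble χ
    have hX' : ∑ j ∈ X, (χ : G → ℂ) (x ^ j) = (p : ℂ) * m - d := by
      rw [hX, Finset.sum_erase_eq_sub (Finset.mem_range.2 hpp.pos), hs, pow_zero, hd]
    rw [hX'] at hd'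
    have h1 := congrArg Complex.re hd'
    have h2 : (e : ℝ) * (∑ c ∈ C, (χ : G → ℂ) c).re = (g0 : ℝ) * ((p : ℝ) * m - d) := by simpa using h1
    rw [hd, Complex.natCast_re]
    refine le_of_mul_le_mul_left ?_ (show (0 : ℝ) < e by linarith)
    rw [h2]
    have hmdR : 2 * (m : ℝ) ≤ d := by exact_mod_cast hmd
    calc (g0 : ℝ) * ((p : ℝ) * m - d) ≤ g0 * (((p : ℝ) - 2) / 2 * d) := by
          refine mul_le_mul_of_nonneg_left ?_ (Nat.cast_nonneg _)
          nlinarith
      _ = ((e : ℝ) * C.card) * (((p : ℝ) - 2) / (2 * ((p : ℝ) - 1))) * d := by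
          rw [heNR]; field_simp [show (p : ℝ) - 1 ≠ 0 by linarith]
      _ = _ := by ring

end CfsgLib.Transfer.PairProducts
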