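import Mathlib

/-!
Multiplicity vectors on `ZMod (p ^ n)` of small variance that are invariant under a group of units
acting freely: at least half of the total lies on the units.
-/

set_option autoImplicit false
set_option maxHeartbeats 800000

namespace CfsgLib.Transfer.PairProducts

theorem ones_contra_zero {p e q N0 S : ℤ} (hp : 3 ≤ p) (he : 0 < e) (hN : 0 ≤ N0) (hq : q = p * N0)
    (hS : S ≤ 2 * (N0 - 1)) (h3 : 3 * e ≤ S) (hkey : S * (q - S) ≤ e * q) : False := by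
  have h3N : 3 * N0 ≤ q := by rw [hq]; exact mul_le_mul_of_nonneg_right hp hN
  have h10 : q - 2 * (N0 - 1) ≤ q - S := by linarith
  have h11 : 0 ≤ q - 2 * (N0 - 1) := by linarith
  have h12 : 3 * e * (q - 2 * (N0 - 1)) ≤ e * q := le_trans (mul_le_mul h3 h10 h11 (by linarith)) hkey
  have h13 : 3 * (q - 2 * (N0 - 1)) ≤ q := le_of_mul_le_mul_left (by linarith) he
  linarith

theorem ones_contra_pos {p e q N0 S m : ℤ} (hp : p = 3 ∨ 5 ≤ p) (he : 2 ≤ e) (hep : e ≤ p - 1)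
    (hN : p ≤ N0) (hq : q = p * N0) (hS : S ≤ 2 * (N0 - 1)) (h2 : 2 * e ≤ S) (hm1 : 1 ≤ m)
    (hm : m ≤ e - 1) (hkey : S * (q - S - 2 * m) + m ^ 2 * (q - 1) ≤ e * q) : False := by
  have hp3 : 3 ≤ p := by omega
  set L : ℤ := q - 2 * (N0 - 1) - 2 * (e - 1) with hL
  have h3N : 3 * N0 ≤ q := by rw [hq]; exact mul_le_mul_of_nonneg_right hp3 (by linarith)
  have hpq : p * p ≤ q := by rw [hq]; exact mul_le_mul_of_nonneg_left hN (by linarith)
  have hq1 : 0 ≤ q - 1 := by linarith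
  rcases hp with rfl | hp5
  · obtain rfl : e = 2 := by linarith
    obtain rfl : m = 1 := by linarith
    have h10 : L ≤ q - S - 2 * 1 := by linarith
    have h12 : 2 * 2 * L ≤ S * (q - S - 2 * 1) := mul_le_mul h2 h10 (by linarith) (by linarith)
    linarith
  · have h5N : 5 * N0 ≤ q := by rw [hq]; exact mul_le_mul_of_nonneg_right hp5 (by linarith)
    have h10 : L ≤ q - S - 2 * m := by linarith
    have h12 : 2 * e * L ≤ S * (q - S - 2 * m) := mul_le_mul h2 h10 (by linarith) (by linarith)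
    have hm2 : 1 * (q - 1) ≤ m ^ 2 * (q - 1) :=
      mul_le_mul_of_nonneg_right (one_le_pow₀ hm1) hq1
    have hw : -3 ≤ 2 * L - q := by
      rw [hL, hq]
      linarith [mul_le_mul_of_nonneg_right hN (show (0 : ℤ) ≤ p - 4 by linarith),
        mul_nonneg (show (0 : ℤ) ≤ p - 3 by linarith) (show (0 : ℤ) ≤ p - 5 by linarith)]
    have hw2 : e * -3 ≤ e * (2 * L - q) := mul_le_mul_of_nonneg_left hw (by linarith)
    have hpp2 := mul_le_mul (show (4 : ℤ) ≤ p - 1 by linarith) (show (3 : ℤ) ≤ p - 2 by linarith)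
      (by norm_num) (by linarith)
    linarith

open scoped Classical in
theorem nonunit_le_half {p n q : ℕ} [hp : Fact p.Prime] [NeZero q] (hp2 : p ≠ 2) (hq : q = p ^ n)
    (hn : n ≠ 0) (μ : ZMod q → ℕ) (E : Finset (ZMod q)) (he2 : 2 ≤ E.card) (hep : E.card ≤ p - 1)
    (h1 : (1 : ZMod q) ∈ E) (hmul : ∀ a ∈ E, ∀ b ∈ E, a * b ∈ E) (hunit : ∀ a ∈ E, IsUnit a)
    (hfree : ∀ a ∈ E, ∀ b ∈ E, a ≠ b → IsUnit (a - b))
    (hinv : ∀ k ∈ E, ∀ i, μ (k * i) = μ i)
    (hD : (q : ℤ) * ∑ i, (μ i : ℤ) ^ 2 - (∑ i, (μ i : ℤ)) ^ 2 ≤ E.card * q)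
    (hprim : ∃ i, IsUnit i ∧ μ i ≠ 0) :
    2 * ∑ i ∈ Finset.univ.filter (fun i : ZMod q => ¬ IsUnit i), μ i ≤ ∑ i, μ i := by
  obtain ⟨n', rfl⟩ : ∃ n', n = n' + 1 := ⟨n - 1, by omega⟩
  have hpp : p.Prime := hp.out
  have hp3 : 3 ≤ p := by have := hpp.two_le; omega
  have hq2 : 2 ≤ q := by
    rw [hq]; exact le_trans hpp.two_le (Nat.le_self_pow (by omega) p)
  haveI : Fact (1 < q) := ⟨hq2⟩
  -- orbits
  let O : ZMod q → Finset (ZMod q) := fun i => E.image (fun k => k * i)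
  have hOcard : ∀ i, i ≠ 0 → (O i).card = E.card := fun i hi => by
    refine Finset.card_image_of_injOn fun a ha b hb hab => by_contra fun hne => hi ?_
    have h : (a - b) * i = 0 := by rw [sub_mul, sub_eq_zero]; exact hab
    exact (hfree a ha b hb hne).mul_right_eq_zero.1 h
  have hinvE : ∀ a ∈ E, ∃ b ∈ E, b * a = 1 := by
    intro a ha
    have hs : E.image (fun k => k * a) = E := by
      refine Finset.eq_of_subset_of_card_le (fun x hx => ?_) (le_of_eq ?_)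
      · obtain ⟨k, hk, rfl⟩ := Finset.mem_image.1 hx
        exact hmul k hk a ha
      · exact (Finset.card_image_of_injOn fun x _ y _ hxy => (hunit a ha).mul_right_cancel hxy).symm
    obtain ⟨b, hb, hb'⟩ := Finset.mem_image.1 (hs.symm ▸ h1 : (1 : ZMod q) ∈ E.image fun k => k * a)
    exact ⟨b, hb, hb'⟩
  have hOeq : ∀ i j, j ∈ O i → O j = O i := by
    intro i j hj
    obtain ⟨a, ha, rfl⟩ := Finset.mem_image.1 hj
    obtain ⟨b, hb, hba⟩ := hinvE a ha
    ext x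
    simp only [O, Finset.mem_image]
    constructor
    · rintro ⟨k, hk, rfl⟩; exact ⟨k * a, hmul k hk a ha, mul_assoc k a i⟩
    · rintro ⟨k, hk, rfl⟩
      exact ⟨k * b, hmul k hk b hb, by rw [mul_assoc, ← mul_assoc b, hba, one_mul]⟩
  have hself : ∀ i, i ∈ O i := fun i => Finset.mem_image.2 ⟨1, h1, one_mul i⟩
  have hOμ : ∀ i, ∀ j ∈ O i, μ j = μ i := fun i j hj => by
    obtain ⟨a, ha, rfl⟩ := Finset.mem_image.1 hj
    exact hinv a ha i
  have hOunit : ∀ i, ∀ j ∈ O i, (IsUnit j ↔ IsUnit i) := fun i j hj => by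
    obtain ⟨a, ha, rfl⟩ := Finset.mem_image.1 hj
    rw [IsUnit.mul_iff]
    exact ⟨fun h => h.2, fun h => ⟨hunit a ha, h⟩⟩
  have hOne0 : ∀ i, i ≠ 0 → ∀ j ∈ O i, j ≠ 0 := fun i hi j hj => by
    obtain ⟨a, ha, rfl⟩ := Finset.mem_image.1 hj
    exact fun h => hi ((hunit a ha).mul_right_eq_zero.1 h)
  -- variance
  set c : ℤ := ∑ i, (μ i : ℤ) with hc
  have hvar : ∑ i, ((q : ℤ) * μ i - c) ^ 2 ≤ (E.card : ℤ) * q * q := by
    have e : ∑ i, ((q : ℤ) * μ i - c) ^ 2 = q * (q * ∑ i, (μ i : ℤ) ^ 2 - c ^ 2) := by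
      simp only [sub_sq, mul_pow, Finset.sum_add_distrib, Finset.sum_sub_distrib, Finset.sum_const,
        Finset.card_univ, ZMod.card, nsmul_eq_mul]
      rw [← Finset.mul_sum, ← Finset.sum_mul]
      simp only [mul_assoc, ← Finset.mul_sum]
      rw [← hc]
      ring
    rw [e]
    calc (q : ℤ) * (q * ∑ i, (μ i : ℤ) ^ 2 - c ^ 2) ≤ q * (E.card * q) :=
          mul_le_mul_of_nonneg_left hD (by positivity)
      _ = _ := by ring
  have hqpos : (0 : ℤ) < q := by exact_mod_cast (show 0 < q by omega)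
  set e : ℕ := E.card with he
  have heZ : (2 : ℤ) ≤ e := by exact_mod_cast he2
  have hΔ : ∀ i j, i ≠ 0 → j ≠ 0 → μ i ≤ μ j + 1 := by
    intro i j hi hj
    by_contra hlt
    push Not at hlt
    have hdis : Disjoint (O i) (O j) := Finset.disjoint_left.2 fun x h2 h3 => by
      have := (hOμ i x h2).symm.trans (hOμ j x h3)
      omega
    have h4 := (Finset.sum_le_sum_of_subset_of_nonneg (Finset.subset_univ (O i ∪ O j))
      fun x _ _ => sq_nonneg ((q : ℤ) * μ x - c)).trans hvar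
    rw [Finset.sum_union hdis, Finset.sum_congr rfl fun x hx => by rw [hOμ i x hx],
      Finset.sum_congr rfl (fun x (hx : x ∈ O j) => by rw [hOμ j x hx]), Finset.sum_const, Finset.sum_const,
      hOcard i hi, hOcard j hj, nsmul_eq_mul, nsmul_eq_mul, ← mul_add, mul_assoc (e : ℤ)] at h4
    have h6 := le_of_mul_le_mul_left h4 (by positivity)
    have h5 : (μ j : ℤ) + 2 ≤ μ i := by exact_mod_cast hlt
    nlinarith [sq_nonneg ((q : ℤ) * μ i - c + ((q : ℤ) * μ j - c)),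
      mul_le_mul_of_nonneg_left h5 hqpos.le, mul_pos hqpos hqpos]
  have hΔ0 : ∀ i, i ≠ 0 → μ 0 ≤ μ i + (e - 1) := by
    intro i hi
    by_contra hlt
    push Not at hlt
    have hdis : Disjoint ({0} : Finset (ZMod q)) (O i) := Finset.disjoint_singleton_left.2 fun h =>
      hOne0 i hi 0 h rfl
    have h4 := (Finset.sum_le_sum_of_subset_of_nonneg (Finset.subset_univ ({0} ∪ O i))
      fun x _ _ => sq_nonneg ((q : ℤ) * μ x - c)).trans hvar
    rw [Finset.sum_union hdis, Finset.sum_singleton, Finset.sum_congr rfl fun x hx => by rw [hOμ i x hx],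
      Finset.sum_const, hOcard i hi, nsmul_eq_mul] at h4
    have h5 : (μ i : ℤ) + e ≤ μ 0 := by exact_mod_cast (show μ i + e ≤ μ 0 by omega)
    set A := (q : ℤ) * μ 0 - c with hA
    set B := (q : ℤ) * μ i - c with hB
    have hAB : (q : ℤ) * e ≤ A - B := by rw [hA, hB]; nlinarith
    have hAB2 : ((q : ℤ) * e) ^ 2 ≤ (A - B) ^ 2 := pow_le_pow_left₀ (by positivity) hAB 2
    have hid : (e : ℤ) * (A - B) ^ 2 ≤ ((e : ℤ) + 1) * (e * q * q) := by
      calc (e : ℤ) * (A - B) ^ 2 ≤ ((e : ℤ) + 1) * (A ^ 2 + e * B ^ 2) := by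
            nlinarith [sq_nonneg (A + e * B)]
        _ ≤ _ := mul_le_mul_of_nonneg_left h4 (by positivity)
    have h7 : (A - B) ^ 2 ≤ ((e : ℤ) + 1) * q * q :=
      le_of_mul_le_mul_left (le_of_le_of_eq hid (by ring)) (show (0 : ℤ) < e by linarith)
    have h8 : (q : ℤ) * q * (e * e) ≤ q * q * (e + 1) := by nlinarith
    have h9 : (e : ℤ) * e ≤ e + 1 := le_of_mul_le_mul_left h8 (mul_pos hqpos hqpos)
    nlinarith
  -- counting
  set T1 := Finset.univ.filter (fun i : ZMod q => IsUnit i) with hT1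
  set T0 := (Finset.univ.filter (fun i : ZMod q => ¬ IsUnit i)).erase 0 with hT0
  set N0 : ℕ := p ^ n' with hN0
  have hqN : q = p * N0 := by rw [hq, hN0, pow_succ, mul_comm]
  have hN0pos : 0 < N0 := pow_pos hpp.pos _
  have hT1c : T1.card = (p - 1) * N0 := by
    have h : T1.card = Fintype.card (ZMod q)ˣ := by
      rw [← Fintype.card_subtype]
      exact Fintype.card_congr
        { toFun := fun x => x.2.unit
          invFun := fun v => ⟨(v : ZMod q), v.isUnit⟩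
          left_inv := fun x => Subtype.ext x.2.unit_spec
          right_inv := fun v => Units.ext (IsUnit.unit_spec _) }
    rw [h, ZMod.card_units_eq_totient, hq, Nat.totient_prime_pow hpp (by omega)]
    simp only [Nat.add_sub_cancel, hN0, mul_comm]
  have h0nu : ¬ IsUnit (0 : ZMod q) := not_isUnit_zero
  have h0mem : (0 : ZMod q) ∈ Finset.univ.filter (fun i : ZMod q => ¬ IsUnit i) :=
    Finset.mem_filter.2 ⟨Finset.mem_univ _, h0nu⟩
  have hT0c : T0.card + 1 = N0 := by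
    rw [hT0, Finset.card_erase_add_one h0mem]
    have h := Finset.card_filter_add_card_filter_not (s := (Finset.univ : Finset (ZMod q))) (fun i => IsUnit i)
    rw [← hT1, hT1c, Finset.card_univ, ZMod.card] at h
    obtain ⟨p', rfl⟩ := Nat.exists_eq_add_of_le (show 1 ≤ p by omega)
    rw [Nat.add_sub_cancel_left] at h
    rw [add_mul, one_mul] at hqN
    omega
  have hmsum : ∑ i ∈ Finset.univ.filter (fun i : ZMod q => ¬ IsUnit i), μ i = μ 0 + ∑ i ∈ T0, μ i :=
    (Finset.add_sum_erase _ _ h0mem).symm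
  have htot : ∑ i, μ i = ∑ i ∈ T1, μ i + (μ 0 + ∑ i ∈ T0, μ i) := by
    rw [← hmsum, hT1, Finset.sum_filter_add_sum_filter_not]
  rw [hmsum]
  suffices hgoal : μ 0 + ∑ i ∈ T0, μ i ≤ ∑ i ∈ T1, μ i by omega
  have hmem1 : ∀ i ∈ T1, i ≠ 0 := fun i hi h => h0nu (h ▸ (Finset.mem_filter.1 hi).2)
  have hmem0 : ∀ i ∈ T0, i ≠ 0 := fun i hi => (Finset.mem_erase.1 hi).1
  have hne : (Finset.univ.erase (0 : ZMod q)).Nonempty :=
    ⟨1, Finset.mem_erase.2 ⟨one_ne_zero, Finset.mem_univ _⟩⟩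
  obtain ⟨i₀, hi₀, hmin⟩ := Finset.exists_min_image _ μ hne
  have hi₀0 : i₀ ≠ 0 := (Finset.mem_erase.1 hi₀).1
  set u := μ i₀ with hu
  have hlow : ∀ i, i ≠ 0 → u ≤ μ i := fun i hi => hmin i (Finset.mem_erase.2 ⟨hi, Finset.mem_univ _⟩)
  have hup : ∀ i, i ≠ 0 → μ i ≤ u + 1 := fun i hi => hΔ i i₀ hi hi₀0
  have hμ0 : μ 0 ≤ u + (e - 1) := hΔ0 i₀ hi₀0
  have hS0le : ∑ i ∈ T0, μ i ≤ T0.card * (u + 1) :=
    Finset.sum_le_card_nsmul T0 μ (u + 1) fun i hi => hup i (hmem0 i hi)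
  have hS1ge : T1.card * u ≤ ∑ i ∈ T1, μ i :=
    Finset.card_nsmul_le_sum T1 μ u fun i hi => hlow i (hmem1 i hi)
  rcases Nat.eq_zero_or_pos u with hu0 | hupos
  swap
  · rw [hT1c] at hS1ge
    obtain ⟨p', rfl⟩ := Nat.exists_eq_add_of_le (show 1 ≤ p by omega)
    rw [Nat.add_sub_cancel_left] at hS1ge hep
    obtain ⟨u', hu'⟩ : ∃ u', u = u' + 1 := ⟨u - 1, by omega⟩
    obtain ⟨e', he'⟩ : ∃ e', e = e' + 1 := ⟨e - 1, by omega⟩
    rw [hu'] at hS1ge hμ0 hS0le
    rw [he', Nat.add_sub_cancel] at hμ0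
    rw [he'] at hep
    nlinarith [Nat.mul_le_mul_left u' (show 2 ≤ p' by omega), Nat.mul_le_mul_left p' hN0pos,
      Nat.mul_le_mul_left (u' * (p' - 1)) hN0pos, mul_nonneg (Nat.zero_le u') (Nat.zero_le T0.card)]
  -- values zero and one
  rw [hu0, zero_add] at hμ0
  have h01 : ∀ i, i ≠ 0 → μ i = 0 ∨ μ i = 1 := fun i hi => by
    have := hup i hi
    omega
  have hsum01 : ∀ T : Finset (ZMod q), (∀ i ∈ T, i ≠ 0) →
      ∑ i ∈ T, μ i = (T.filter fun i => μ i = 1).card ∧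
      ∑ i ∈ T, (μ i : ℤ) ^ 2 = (T.filter fun i => μ i = 1).card := by
    intro T hT
    constructor
    · rw [Finset.card_filter]
      refine Finset.sum_congr rfl fun i hi => ?_
      rcases h01 i (hT i hi) with h | h <;> simp [h]
    · rw [Finset.card_filter, Nat.cast_sum]
      refine Finset.sum_congr rfl fun i hi => ?_
      rcases h01 i (hT i hi) with h | h <;> simp [h]
  obtain ⟨hS1, hS1q⟩ := hsum01 T1 hmem1
  obtain ⟨hS0, hS0q⟩ := hsum01 T0 hmem0
  set S1 := (T1.filter fun i => μ i = 1).card with hS1d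
  set S0 := (T0.filter fun i => μ i = 1).card with hS0d
  have hdvd : ∀ T : Finset (ZMod q), (∀ i ∈ T, i ≠ 0 ∧ O i ⊆ T) → e ∣ T.card := by
    intro T hT
    rw [Finset.card_eq_sum_card_image O T]
    refine Finset.dvd_sum fun o ho => ?_
    obtain ⟨i, hi, rfl⟩ := Finset.mem_image.1 ho
    have : T.filter (fun j => O j = O i) = O i := by
      ext j
      rw [Finset.mem_filter]
      exact ⟨fun h => h.2 ▸ hself j, fun h => ⟨(hT i hi).2 h, hOeq i j h⟩⟩
    rw [this, hOcard i (hT i hi).1]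
  have hd1 : e ∣ S1 := by
    refine hdvd _ fun i hi => ⟨hmem1 i (Finset.mem_filter.1 hi).1, fun j hj => ?_⟩
    obtain ⟨h2, h3⟩ := Finset.mem_filter.1 hi
    refine Finset.mem_filter.2 ⟨Finset.mem_filter.2 ⟨Finset.mem_univ _, ?_⟩, (hOμ i j hj).trans h3⟩
    exact (hOunit i j hj).2 (Finset.mem_filter.1 h2).2
  have hd0 : e ∣ S0 := by
    refine hdvd _ fun i hi => ⟨hmem0 i (Finset.mem_filter.1 hi).1, fun j hj => ?_⟩
    obtain ⟨h2, h3⟩ := Finset.mem_filter.1 hi
    obtain ⟨h4, h5⟩ := Finset.mem_erase.1 h2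
    refine Finset.mem_filter.2 ⟨Finset.mem_erase.2 ⟨hOne0 i h4 j hj,
      Finset.mem_filter.2 ⟨Finset.mem_univ _, ?_⟩⟩, (hOμ i j hj).trans h3⟩
    exact fun hh => (Finset.mem_filter.1 h5).2 ((hOunit i j hj).1 hh)
  obtain ⟨i₁, hi₁, hi₁ne⟩ := hprim
  have hS1pos : 0 < S1 := by
    refine Finset.card_pos.2 ⟨i₁, Finset.mem_filter.2 ⟨Finset.mem_filter.2 ⟨Finset.mem_univ _, hi₁⟩, ?_⟩⟩
    rcases h01 i₁ (fun h => h0nu (h ▸ hi₁)) with h | h
    · exact absurd h hi₁ne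
    · exact h
  rw [hS1, hS0]
  by_contra hlt
  push Not at hlt
  obtain ⟨a1, ha1⟩ := hd1
  obtain ⟨a0, ha0⟩ := hd0
  have ha1pos : 0 < a1 := by
    by_contra h
    rw [show a1 = 0 by omega, mul_zero] at ha1
    omega
  have ha10 : a1 ≤ a0 := by
    by_contra h
    push Not at h
    have := Nat.mul_le_mul_left e h
    rw [Nat.mul_succ] at this
    omega
  have hS0T : S0 ≤ T0.card := Finset.card_filter_le _ _
  -- the variance bound in the two numbers
  have hsq : (q : ℤ) * ((μ 0 : ℤ) ^ 2 + S1 + S0) - ((μ 0 : ℤ) + S1 + S0) ^ 2 ≤ e * q := by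
    have e1 : ∑ i, (μ i : ℤ) ^ 2 = (μ 0 : ℤ) ^ 2 + S1 + S0 := by
      rw [← Finset.sum_filter_add_sum_filter_not Finset.univ (fun i : ZMod q => IsUnit i), ← hT1,
        ← Finset.add_sum_erase _ _ h0mem, ← hT0, hS1q, hS0q]
      ring
    have e2 : c = (μ 0 : ℤ) + S1 + S0 := by
      rw [hc, ← Nat.cast_sum, htot, hS1, hS0]
      push_cast
      ring
    rw [e1, e2] at hD
    exact hD
  obtain ⟨S, hS⟩ : ∃ S : ℤ, S = (S1 : ℤ) + S0 := ⟨_, rfl⟩
  have hqZ : (q : ℤ) = p * N0 := by exact_mod_cast hqN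
  have hp3Z : (3 : ℤ) ≤ p := by exact_mod_cast hp3
  have heZ' : (e : ℤ) ≤ p - 1 := by
    have : (e : ℤ) + 1 ≤ p := by exact_mod_cast (show e + 1 ≤ p by omega)
    linarith
  have hT0Z : (S0 : ℤ) + 1 ≤ N0 := by exact_mod_cast (show S0 + 1 ≤ N0 by omega)
  have hle10 : (S1 : ℤ) ≤ S0 := by
    rw [ha1, ha0]; exact_mod_cast Nat.mul_le_mul_left e ha10
  have hSle : S ≤ 2 * ((N0 : ℤ) - 1) := by linarith
  have h2e : 2 * (e : ℤ) ≤ S := by
    have := Nat.mul_le_mul_left e ha1pos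
    have := Nat.mul_le_mul_left e (show 1 ≤ a0 by omega)
    have : (2 * e : ℕ) ≤ S1 + S0 := by rw [ha1, ha0]; omega
    rw [hS]; exact_mod_cast this
  rcases Nat.eq_zero_or_pos (μ 0) with hz | hpos
  · -- no trivial constituent
    have hlt01 : a1 < a0 := by
      rcases lt_or_eq_of_le ha10 with h | h
      · exact h
      · exfalso; rw [hz, zero_add, ha1, ha0, h] at hlt; omega
    have h3e : 3 * (e : ℤ) ≤ S := by
      have := Nat.mul_le_mul_left e (show 2 ≤ a0 by omega)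
      have := Nat.mul_le_mul_left e ha1pos
      have : (3 * e : ℕ) ≤ S1 + S0 := by rw [ha1, ha0]; omega
      rw [hS]; exact_mod_cast this
    rw [hz] at hsq
    have hkey : S * ((q : ℤ) - S) ≤ e * q := by
      rw [hS]; push_cast at hsq; linarith
    exact ones_contra_zero hp3Z (by linarith) (Nat.cast_nonneg _) hqZ hSle h3e hkey
  · -- a trivial constituent
    obtain ⟨m, hm⟩ : ∃ m : ℤ, m = (μ 0 : ℤ) := ⟨_, rfl⟩
    rw [← hm] at hsq
    have hm1 : 1 ≤ m := by rw [hm]; exact_mod_cast hpos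
    have hme : m ≤ (e : ℤ) - 1 := by
      have : (μ 0 : ℤ) + 1 ≤ e := by exact_mod_cast (show μ 0 + 1 ≤ e by omega)
      linarith
    have hkey : S * ((q : ℤ) - S - 2 * m) + m ^ 2 * ((q : ℤ) - 1) ≤ e * q := by
      rw [hS]; linarith
    have hN0p : (p : ℤ) ≤ N0 := by
      rcases Nat.eq_zero_or_pos n' with h0 | h0
      · exfalso
        rw [h0, pow_zero] at hN0
        rw [hN0] at hT0c
        have : 0 < S0 := by rw [ha0]; exact Nat.mul_pos (by omega) (by omega)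
        omega
      · exact_mod_cast (Nat.le_self_pow (by omega) p : p ≤ p ^ n').trans_eq hN0.symm
    have hp35 : (p : ℤ) = 3 ∨ 5 ≤ (p : ℤ) := by
      have h34 : p ≠ 4 := fun h => by rw [h] at hpp; norm_num at hpp
      omega
    exact ones_contra_pos hp35 heZ heZ' hN0p hqZ hSle h2e hm1 hme hkey

end CfsgLib.Transfer.PairProducts
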