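import Cfsg.Agent.Lib.Transfer.PairProducts.Basic
import Cfsg.Agent.Lib.Blocks.PrincipalSection
import Cfsg.Agent.Lib.Blocks.GaloisInv
import Cfsg.Agent.Lib.CharBlocks.PrincipalColumn
import Cfsg.Agent.Lib.CharBlocks.ClassMul
import Cfsg.Agent.Lib.Char.Integral

/-!
Counting the pairs of elements of order `p` by the `p`-part of their product.
-/

set_option autoImplicit false

noncomputable section

namespace CfsgLib.Transfer.PairProducts

open Cfsg
open scoped ComplexConjugate

universe u

variable {G : Type u} [Group G] [Fintype G]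

/-- Pairs from a union of classes with a given product. -/
theorem card_mul_pairs [DecidableEq G] (C : Finset G) (hC : ∀ c ∈ C, ∀ g : G, g * c * g⁻¹ ∈ C) (z : G) :
    (Nat.card G : ℂ) * (((C ×ˢ C).filter fun ab => ab.1 * ab.2 = z).card : ℂ) =
      ∑ χ : IrrCharacter G, (∑ c ∈ C, (χ : G → ℂ) c) ^ 2 * conj ((χ : G → ℂ) z) / (χ : G → ℂ) 1 := by
  classical
  have hG := CfsgLib.Char.card_ne_zero' (G := G)
  have key : ∀ (χ : IrrCharacter G) (w : G), (χ : G → ℂ) 1 * ∑ c ∈ C, (χ : G → ℂ) (c * w) =
      (∑ c ∈ C, (χ : G → ℂ) c) * (χ : G → ℂ) w := by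
    intro χ w
    apply mul_left_cancel₀ hG
    have h1 : ∀ g : G, ∑ c ∈ C, (χ : G → ℂ) (c * w) = ∑ c ∈ C, (χ : G → ℂ) (g * c * g⁻¹ * w) := by
      intro g
      refine (Finset.sum_nbij' (fun c => g * c * g⁻¹) (fun c => g⁻¹ * c * g)
        (fun c hc => hC c hc g) (fun c hc => by simpa using hC c hc g⁻¹)
        (fun c _ => by group) (fun c _ => by group) fun c _ => rfl).symm
    calc (Nat.card G : ℂ) * ((χ : G → ℂ) 1 * ∑ c ∈ C, (χ : G → ℂ) (c * w))
        = (χ : G → ℂ) 1 * ∑ _g : G, ∑ c ∈ C, (χ : G → ℂ) (c * w) := by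
          rw [Finset.sum_const, Finset.card_univ, nsmul_eq_mul, Nat.card_eq_fintype_card]; ring
      _ = (χ : G → ℂ) 1 * ∑ c ∈ C, ∑ g : G, (χ : G → ℂ) (g * c * g⁻¹ * w) := by
          rw [Finset.sum_congr rfl fun g _ => h1 g, Finset.sum_comm]
      _ = (Nat.card G : ℂ) * ((∑ c ∈ C, (χ : G → ℂ) c) * (χ : G → ℂ) w) := by
          rw [Finset.mul_sum, Finset.sum_congr rfl fun c _ => CfsgLib.CharBlocks.sum_conj_mul χ.2 c w,
            Finset.sum_mul, Finset.mul_sum]
          exact Finset.sum_congr rfl fun c _ => by ring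
  calc (Nat.card G : ℂ) * (((C ×ˢ C).filter fun ab => ab.1 * ab.2 = z).card : ℂ)
      = ∑ ab ∈ C ×ˢ C, ∑ χ : IrrCharacter G, (χ : G → ℂ) 1 * (χ : G → ℂ) (ab.1 * ab.2 * z⁻¹) := by
        rw [Finset.card_eq_sum_ones, Nat.cast_sum, Finset.sum_filter, Finset.mul_sum]
        refine Finset.sum_congr rfl fun ab _ => ?_
        rw [CfsgLib.Char.sum_degree_mul_apply]
        simp only [mul_inv_eq_one, Nat.cast_one]
        split_ifs <;> simp
    _ = ∑ χ : IrrCharacter G, (χ : G → ℂ) 1 * ∑ b ∈ C, ∑ a ∈ C, (χ : G → ℂ) (a * (b * z⁻¹)) := by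
        rw [Finset.sum_comm]
        refine Finset.sum_congr rfl fun χ _ => ?_
        rw [Finset.sum_product, Finset.sum_comm, Finset.mul_sum]
        refine Finset.sum_congr rfl fun b _ => ?_
        rw [Finset.mul_sum]
        exact Finset.sum_congr rfl fun a _ => by rw [mul_assoc a b]
    _ = _ := by
        refine Finset.sum_congr rfl fun χ _ => ?_
        rw [eq_div_iff (CfsgLib.Char.irr_one_ne_zero χ.2), Finset.mul_sum,
          Finset.sum_congr rfl fun b _ => key χ (b * z⁻¹), ← Finset.mul_sum, mul_assoc,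
          mul_comm _ ((χ : G → ℂ) 1), key, CfsgLib.Char.char_inv (CfsgLib.Char.isCharacter_of_isIrr χ.2)]
        ring

variable {p : ℕ} [Fact p.Prime]

/-- Sum of a character over the elements with given `p`-part. -/
theorem sum_section {M : Ideal AlgInt} [M.IsMaximal] (hM : IsPModular p M) {c : G} (hc : orderOf c = p)
    (hnc : ∃ k : ℕ, (pPrimeCore p ↥(Subgroup.centralizer ({c} : Set G))).index = p ^ k)
    [DecidableEq G] [DecidablePred fun z => IsPPart p z c] [DecidablePred (· ∈ principalBlock M G)]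
    (χ : IrrCharacter G) :
    (∑ z ∈ Finset.univ.filter (fun z => IsPPart p z c), (χ : G → ℂ) z) *
        ((p ^ (Nat.card ↥(Subgroup.centralizer ({c} : Set G))).factorization p : ℕ) : ℂ) =
      (Nat.card ↥(Subgroup.centralizer ({c} : Set G)) : ℂ) *
        if χ ∈ principalBlock M G then (χ : G → ℂ) c else 0 := by
  classical
  set Z := Subgroup.centralizer ({c} : Set G) with hZ
  let _ := Fintype.ofFinite Z
  set K := pPrimeCore p Z with hK
  haveI hKn : K.Normal := by
    have := CfsgLib.Cores.pPrimeCore_characteristic (G := Z) p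
    exact inferInstance
  have hpp : p.Prime := Fact.out
  have hck : ∃ k : ℕ, orderOf c = p ^ k := ⟨1, by rw [hc, pow_one]⟩
  have hreg : ∀ y : Z, y ∈ K ↔ ¬ p ∣ orderOf y := fun y =>
    ⟨fun hy hd => CfsgLib.Cores.not_dvd_card_pPrimeCore p
        (hd.trans (Subgroup.orderOf_dvd_natCard K hy)),
      fun hy => CfsgLib.Blocks.mem_of_index_pow hpp hnc hy⟩
  have hcentral : ∀ y : Z, Commute c (y : G) := fun y => (Subgroup.mem_centralizer_singleton_iff.1 y.2).symm
  have himg : Finset.univ.filter (fun z => IsPPart p z c) =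
      (Finset.univ.filter fun y : Z => y ∈ K).image fun y : Z => c * (y : G) := by
    ext z
    simp only [Finset.mem_filter, Finset.mem_univ, true_and, Finset.mem_image]
    constructor
    · rintro ⟨y, rfl, hcy, -, hy⟩
      refine ⟨⟨y, Subgroup.mem_centralizer_singleton_iff.2 hcy.symm⟩, (hreg _).2 ?_, rfl⟩
      rwa [Subgroup.orderOf_mk]
    · rintro ⟨y, hy, rfl⟩
      exact ⟨y, rfl, hcentral y, hck, by rw [Subgroup.orderOf_coe]; exact (hreg y).1 hy⟩
  rw [himg, Finset.sum_image (fun a _ b _ hab => Subtype.ext (mul_left_cancel hab))]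
  have hcard : ((p ^ (Nat.card Z).factorization p : ℕ) : ℂ) * (Nat.card K : ℂ) = (Nat.card Z : ℂ) := by
    obtain ⟨k, hk⟩ := hnc
    have h1 : Nat.card K * p ^ k = Nat.card Z := hk ▸ K.card_mul_index
    have h2 : (Nat.card Z).factorization p = k := by
      rw [← h1, Nat.factorization_mul Nat.card_pos.ne' (pow_ne_zero _ hpp.ne_zero),
        Finsupp.add_apply, Nat.Prime.factorization_pow hpp, Finsupp.single_eq_same,
        Nat.factorization_eq_zero_of_not_dvd (CfsgLib.Cores.not_dvd_card_pPrimeCore p), zero_add]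
    rw [h2, ← h1]; push_cast; ring
  suffices hsum : ∑ y ∈ Finset.univ.filter (fun y : Z => y ∈ K), (χ : G → ℂ) (c * (y : G)) =
      (Nat.card K : ℂ) * if χ ∈ principalBlock M G then (χ : G → ℂ) c else 0 by
    rw [hsum, ← hcard]; ring
  have hKcard : ((Finset.univ.filter fun y : Z => y ∈ K).card : ℂ) = (Nat.card K : ℂ) := by
    rw [← Fintype.card_subtype]
    norm_cast
    rw [← Nat.card_eq_fintype_card]
  by_cases hχ : χ ∈ principalBlock M G
  · rw [if_pos hχ, Finset.sum_congr rfl fun y hy => CfsgLib.Blocks.principal_section_const hM hck hnc hχ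
      ((hreg y).1 (Finset.mem_filter.1 hy).2), Finset.sum_const, nsmul_eq_mul, hKcard]
  · rw [if_neg hχ, mul_zero]
    set f : Z → ℂ := fun y => (χ : G → ℂ) (c * (y : G)) with hf
    have hfc : IsClassFunction Z f := fun y g => by
      show (χ : G → ℂ) (c * ((g * y * g⁻¹ : Z) : G)) = (χ : G → ℂ) (c * (y : G))
      have e : c * ((g * y * g⁻¹ : Z) : G) = (g : G) * (c * (y : G)) * (g : G)⁻¹ := by
        push_cast
        rw [← mul_assoc, ← mul_assoc, ← mul_assoc, (hcentral g).eq]
      rw [e]
      exact CfsgLib.Char.isClassFunction_of_isIrr χ.2 (c * (y : G)) (g : G)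
    have h0 := CfsgLib.Blocks.principal_section hM hck χ (y := (1 : Z))
      (by rw [orderOf_one]; exact hpp.not_dvd_one)
    rw [if_neg hχ, CfsgLib.Blocks.blockPart_apply] at h0
    have hB0 := Cfsg.Agent.S0939.result p M hM hnc
    calc ∑ y ∈ Finset.univ.filter (fun y : Z => y ∈ K), f y
        = ∑ φ : IrrCharacter Z, classInner f φ *
            ∑ y ∈ Finset.univ.filter (fun y : Z => y ∈ K), (φ : Z → ℂ) y := by
          rw [Finset.sum_congr rfl fun y _ => congrFun (CfsgLib.Char.classFun_eq_sum hfc) y]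
          simp only [Finset.sum_apply, Pi.smul_apply, smul_eq_mul]
          rw [Finset.sum_comm]
          simp only [Finset.mul_sum]
      _ = (Nat.card K : ℂ) * ∑ φ : IrrCharacter Z, (if φ ∈ principalBlock M Z then
            classInner f φ * (φ : Z → ℂ) 1 else 0) := by
          rw [Finset.mul_sum]
          refine Finset.sum_congr rfl fun φ _ => ?_
          by_cases hφ : φ ∈ principalBlock M Z
          · rw [if_pos hφ]
            rw [hB0] at hφ
            rw [Finset.sum_congr rfl fun y hy => hφ y (Finset.mem_filter.1 hy).2, Finset.sum_const,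
              nsmul_eq_mul, hKcard]
            ring
          · rw [if_neg hφ, mul_zero, mul_eq_zero]
            refine Or.inr ?_
            by_contra hne
            rw [hB0] at hφ
            let _ := Fintype.ofFinite K
            refine hφ (CfsgLib.CharNormal.res_eq_degree_of_constituent_one (N := K) φ.2 ?_)
            rw [CfsgLib.Char.classInner_one_right]
            refine mul_ne_zero (inv_ne_zero CfsgLib.Char.card_ne_zero') fun h => hne ?_
            rw [Finset.sum_subtype _ (p := fun y : Z => y ∈ K) (fun y => by simp)]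
            convert h using 1
      _ = 0 := by rw [h0, mul_zero]

/-- The contradiction: small averages on the elements of order `p` leave no room for the pairs. -/
theorem Setup.false_of_bound (h : Setup p G) {M : Ideal AlgInt} (hM : IsPModular p M) {x : G}
    (hx : orderOf x = p) (hpow : ∀ c : G, orderOf c = p → ∃ (g : G) (i : ℕ), g * x ^ i * g⁻¹ = c)
    (C : Finset G) (hC : ∀ c, c ∈ C ↔ orderOf c = p) (θ : ℝ) (hθ : 0 ≤ θ) (Q : ℝ)
    (hQdef : Q * C.card = (p ^ (Nat.card ↥(Subgroup.centralizer ({x} : Set G))).factorization p : ℕ) *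
      (Nat.card {c : G // IsConj x c} : ℝ))
    (hQ : 1 + θ * (Q - 1) ≤ Q * ((p : ℝ) - 2) / ((p : ℝ) - 1))
    (hbound : ∀ χ ∈ principalBlock M G, χ ≠ CfsgLib.Char.irrOne →
      (∑ c ∈ C, (χ : G → ℂ) c).re ≤ θ * C.card * ((χ : G → ℂ) 1).re) : False := by
  classical
  haveI : M.IsMaximal := hM.2.1
  have hpp : p.Prime := Fact.out
  have hxC : x ∈ C := (hC x).2 hx
  have hCconj : ∀ c ∈ C, ∀ g : G, g * c * g⁻¹ ∈ C := fun c hc g => by
    rw [hC, ← MulAut.conj_apply, MulEquiv.orderOf_eq]; exact (hC c).1 hc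
  have hp2 : (2 : ℕ) < p := lt_of_le_of_ne hpp.two_le h.ne_two.symm
  -- centralisers of elements of order `p`
  have hcent : ∀ c ∈ C, Nat.card ↥(Subgroup.centralizer ({c} : Set G)) =
      Nat.card ↥(Subgroup.centralizer ({x} : Set G)) := by
    intro c hc
    obtain ⟨g, i, rfl⟩ := hpow c ((hC c).1 hc)
    have h1 : IsConj (x ^ i) (g * x ^ i * g⁻¹) := isConj_iff.2 ⟨g, rfl⟩
    have h2 := CfsgLib.Char.card_isConj_mul_card_centralizer (G := G) (x ^ i)
    have h3 := CfsgLib.Char.card_isConj_mul_card_centralizer (G := G) (g * x ^ i * g⁻¹)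
    have h4 : Nat.card {y : G // IsConj (x ^ i) y} = Nat.card {y : G // IsConj (g * x ^ i * g⁻¹) y} :=
      Nat.card_congr (Equiv.subtypeEquivRight fun y => ⟨fun e => h1.symm.trans e, fun e => h1.trans e⟩)
    haveI : Nonempty {y : G // IsConj (g * x ^ i * g⁻¹) y} := ⟨⟨_, IsConj.refl _⟩⟩
    have h5 : Nat.card ↥(Subgroup.centralizer ({g * x ^ i * g⁻¹} : Set G)) =
        Nat.card ↥(Subgroup.centralizer ({x ^ i} : Set G)) := by
      rw [h4] at h2
      exact Nat.eq_of_mul_eq_mul_left Nat.card_pos (h3.trans h2.symm)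
    rw [h5]
    have hxi : orderOf (x ^ i) = p := by
      have := (hC _).1 hc
      rwa [← MulAut.conj_apply, MulEquiv.orderOf_eq] at this
    have hz : x ∈ Subgroup.zpowers (x ^ i) := by
      have e : Subgroup.zpowers (x ^ i) = Subgroup.zpowers x :=
        Subgroup.eq_of_le_of_card_ge (Subgroup.zpowers_le.2 (pow_mem (Subgroup.mem_zpowers x) i))
          (by rw [Nat.card_zpowers, Nat.card_zpowers, hx, hxi])
      rw [e]; exact Subgroup.mem_zpowers x
    obtain ⟨j, hj⟩ := Subgroup.mem_zpowers_iff.1 hz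
    have e : Subgroup.centralizer ({x ^ i} : Set G) = Subgroup.centralizer ({x} : Set G) := by
      refine le_antisymm (fun y hy => ?_) (fun y hy => ?_) <;> rw [Subgroup.mem_centralizer_singleton_iff] at hy ⊢
      · rw [← hj]; exact ((show Commute y (x ^ i) from hy).zpow_right j).eq
      · exact ((show Commute y x from hy).pow_right i).eq
    rw [e]
  set q : ℕ := p ^ (Nat.card ↥(Subgroup.centralizer ({x} : Set G))).factorization p with hq
  set g0 : ℕ := Nat.card {c : G // IsConj x c} with hg0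
  set N : ℕ := C.card with hN
  have hNpos : 0 < N := Finset.card_pos.2 ⟨x, hxC⟩
  have hZG : g0 * Nat.card ↥(Subgroup.centralizer ({x} : Set G)) = Nat.card G :=
    CfsgLib.Char.card_isConj_mul_card_centralizer x
  -- class sums
  set S : IrrCharacter G → ℂ := fun χ => ∑ c ∈ C, (χ : G → ℂ) c with hS
  set r : IrrCharacter G → ℝ := fun χ => (S χ).re with hr
  set d : IrrCharacter G → ℝ := fun χ => ((χ : G → ℂ) 1).re with hd
  have hSconj : ∀ χ : IrrCharacter G, conj (S χ) = S χ := by
    intro χ
    rw [hS, map_sum]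
    refine Finset.sum_nbij' (fun c => c⁻¹) (fun c => c⁻¹) ?_ ?_ (fun c _ => inv_inv c) (fun c _ => inv_inv c)
      fun c _ => (CfsgLib.Char.char_inv (CfsgLib.Char.isCharacter_of_isIrr χ.2) c).symm
    · intro c hc; rw [hC, orderOf_inv]; exact (hC c).1 hc
    · intro c hc; rw [hC, orderOf_inv]; exact (hC c).1 hc
  have hSr : ∀ χ, S χ = (r χ : ℂ) := fun χ => (Complex.conj_eq_iff_re.1 (hSconj χ)).symm
  have hdd : ∀ χ : IrrCharacter G, (χ : G → ℂ) 1 = (d χ : ℂ) ∧ 0 < d χ := fun χ => by
    obtain ⟨n, hn, e⟩ := CfsgLib.Char.exists_degree_pos χ.2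
    simp only [hd]; rw [e]; simp [hn]
  clear_value r d
  -- pairs
  set sing := (C ×ˢ C).filter fun ab => p ∣ orderOf (ab.1 * ab.2) with hsing
  set regp := (C ×ˢ C).filter fun ab => ¬ p ∣ orderOf (ab.1 * ab.2) with hregp
  have hsplit : sing.card + regp.card = N * N := by
    rw [hsing, hregp, Finset.card_filter_add_card_filter_not, Finset.card_product]
  have hregle : (p - 1) * regp.card ≤ N * N := by
    rw [← Finset.card_range (p - 1), ← Finset.card_product, hN, ← Finset.card_product C C]
    refine Finset.card_le_card_of_injOn (fun w => (w.2.1, w.2.2 ^ (w.1 + 1))) ?_ ?_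
    · intro w hw
      simp only [Finset.coe_product, Set.mem_prod, Finset.mem_coe, Finset.mem_range, hregp,
        Finset.mem_filter, Finset.mem_product] at hw ⊢
      refine ⟨hw.2.1.1, (hC _).2 ?_⟩
      rw [Nat.Coprime.orderOf_pow, (hC _).1 hw.2.1.2]
      rw [(hC _).1 hw.2.1.2]
      exact hpp.coprime_iff_not_dvd.2 fun hd => by
        have := Nat.le_of_dvd (by omega) hd; omega
    · rintro ⟨j, a, b⟩ hw ⟨k, a', b'⟩ hw' e
      simp only [Finset.coe_product, Set.mem_prod, Finset.mem_coe, Finset.mem_range, hregp,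
        Finset.mem_filter, Finset.mem_product] at hw hw'
      simp only [Prod.mk.injEq] at e
      obtain ⟨rfl, e⟩ := e
      obtain ⟨hj, ⟨ha, hb⟩, hab⟩ := hw
      obtain ⟨hk, ⟨-, hb'⟩, hab'⟩ := hw'
      rw [hC] at ha hb hb'
      have hz : b' ∈ Subgroup.zpowers b := by
        have h1 : b' ^ (k + 1) ∈ Subgroup.zpowers b := e ▸ pow_mem (Subgroup.mem_zpowers b) _
        have h2 : orderOf (b' ^ (k + 1)) = p := by
          rw [Nat.Coprime.orderOf_pow, hb']
          rw [hb']
          exact hpp.coprime_iff_not_dvd.2 fun hd => by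
            have := Nat.le_of_dvd (by omega) hd; omega
        have e2 : Subgroup.zpowers (b' ^ (k + 1)) = Subgroup.zpowers b' :=
          Subgroup.eq_of_le_of_card_ge (Subgroup.zpowers_le.2 (pow_mem (Subgroup.mem_zpowers b') _))
            (by rw [Nat.card_zpowers, Nat.card_zpowers, hb', h2])
        exact Subgroup.zpowers_le.2 h1 (e2 ▸ Subgroup.mem_zpowers b')
      obtain ⟨i, hi⟩ := mem_powers_iff_mem_zpowers.2 hz
      simp only at hi
      have hbb : b' = b := hi.symm.trans (h.regular_unique ha hb hab (hi.symm ▸ hab'))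
      subst hbb
      rw [pow_eq_pow_iff_modEq, hb] at e
      have h3 : j ≡ k [MOD p] := Nat.ModEq.add_right_cancel' 1 e
      rw [Nat.modEq_iff_dvd' ] at h3 <;>
      · rcases Nat.lt_trichotomy j k with hlt | heq | hgt
        · exfalso
          have := e
          unfold Nat.ModEq at this
          rw [Nat.mod_eq_of_lt (by omega), Nat.mod_eq_of_lt (by omega)] at this
          omega
        · rw [heq]
        · exfalso
          have := e
          unfold Nat.ModEq at this
          rw [Nat.mod_eq_of_lt (by omega), Nat.mod_eq_of_lt (by omega)] at this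
          omega
  -- the three column identities
  have hpart : ∀ {z c c' : G}, IsPPart p z c → IsPPart p z c' → c = c' := fun h h' =>
    CfsgLib.Blocks.isPPart_unique h h'
  have hsingsum : (sing.card : ℂ) = ∑ c ∈ C, ∑ z ∈ Finset.univ.filter (fun z => IsPPart p z c),
      (((C ×ˢ C).filter fun ab => ab.1 * ab.2 = z).card : ℂ) := by
    have h1 : ∀ c ∈ C, ∑ z ∈ Finset.univ.filter (fun z => IsPPart p z c),
        ((C ×ˢ C).filter fun ab => ab.1 * ab.2 = z).card =
        (sing.filter fun ab => IsPPart p (ab.1 * ab.2) c).card := by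
      intro c hc
      rw [Finset.card_eq_sum_card_fiberwise (f := fun ab : G × G => ab.1 * ab.2)
        (t := Finset.univ.filter fun z => IsPPart p z c) (s := sing.filter fun ab => IsPPart p (ab.1 * ab.2) c)
        (fun ab hab => Finset.mem_filter.2 ⟨Finset.mem_univ _, (Finset.mem_filter.1 hab).2⟩)]
      refine Finset.sum_congr rfl fun z hz => congrArg Finset.card ?_
      ext ab
      simp only [hsing, Finset.mem_filter]
      refine ⟨fun hh => ⟨⟨⟨hh.1, ?_⟩, hh.2 ▸ (Finset.mem_filter.1 hz).2⟩, hh.2⟩, fun hh => ⟨hh.1.1.1, hh.2⟩⟩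
      obtain ⟨y, hy, hcy, -, hyr⟩ := (Finset.mem_filter.1 hz).2
      rw [hh.2, ← hy, hcy.orderOf_mul_eq_mul_orderOf_of_coprime
        (by rw [(hC c).1 hc]; exact hpp.coprime_iff_not_dvd.2 hyr), (hC c).1 hc]
      exact dvd_mul_right p _
    simp only [← Nat.cast_sum]
    norm_cast
    rw [Finset.sum_congr rfl h1]
    rw [← Finset.card_biUnion]
    · congr 1
      ext ab
      simp only [Finset.mem_biUnion, Finset.mem_filter, hsing, Finset.mem_product]
      refine ⟨fun hh => ?_, fun ⟨c, hc, hh⟩ => hh.1⟩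
      obtain ⟨c, hc, hc'⟩ := h.product_pPart ((hC _).1 hh.1.1) ((hC _).1 hh.1.2) hh.2
      exact ⟨c, (hC c).2 hc, hh, hc'⟩
    · intro c _ c' _ hne
      refine Finset.disjoint_left.2 fun ab h1 h2 => hne ?_
      exact hpart (Finset.mem_filter.1 h1).2 (Finset.mem_filter.1 h2).2
  have hcompl : ∀ c ∈ C, ∃ k : ℕ, (pPrimeCore p ↥(Subgroup.centralizer ({c} : Set G))).index = p ^ k :=
    fun c hc => h.compl c ((hC c).1 hc)
  have hE1 : (sing.card : ℝ) * q * g0 =
      ∑ χ : IrrCharacter G, if χ ∈ principalBlock M G then r χ ^ 3 / d χ else 0 := by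
    have hZne : (Nat.card ↥(Subgroup.centralizer ({x} : Set G)) : ℂ) ≠ 0 := by
      exact_mod_cast Nat.card_pos.ne'
    have h1 : (Nat.card G : ℂ) * (sing.card : ℂ) * (q : ℂ) =
        (Nat.card ↥(Subgroup.centralizer ({x} : Set G)) : ℂ) *
        ∑ χ : IrrCharacter G, if χ ∈ principalBlock M G then ((r χ ^ 3 / d χ : ℝ) : ℂ) else 0 := by
      rw [hsingsum, Finset.mul_sum, Finset.sum_mul]
      simp only [Finset.mul_sum (s := Finset.univ.filter _), card_mul_pairs C hCconj]
      simp only [Finset.sum_mul]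
      rw [Finset.sum_congr rfl fun c _ => Finset.sum_comm, Finset.sum_comm, Finset.mul_sum]
      refine Finset.sum_congr rfl fun χ _ => ?_
      calc ∑ c ∈ C, ∑ z ∈ Finset.univ.filter (fun z => IsPPart p z c),
            S χ ^ 2 * conj ((χ : G → ℂ) z) / (χ : G → ℂ) 1 * (q : ℂ)
          = S χ ^ 2 / (χ : G → ℂ) 1 * conj (∑ c ∈ C,
              (∑ z ∈ Finset.univ.filter (fun z => IsPPart p z c), (χ : G → ℂ) z) * (q : ℂ)) := by
            rw [map_sum, Finset.mul_sum]
            refine Finset.sum_congr rfl fun c _ => ?_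
            rw [map_mul, map_sum, map_natCast, Finset.sum_mul, Finset.mul_sum]
            exact Finset.sum_congr rfl fun z _ => by ring
        _ = S χ ^ 2 / (χ : G → ℂ) 1 * conj (∑ c ∈ C, (Nat.card ↥(Subgroup.centralizer ({x} : Set G)) : ℂ) *
              if χ ∈ principalBlock M G then (χ : G → ℂ) c else 0) := by
            congr 2
            refine Finset.sum_congr rfl fun c hc => ?_
            have := sum_section hM ((hC c).1 hc) (hcompl c hc) χ
            rwa [hcent c hc, ← hq] at this
        _ = _ := by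
            split_ifs
            · rw [← Finset.mul_sum, map_mul, map_natCast, show (∑ c ∈ C, (χ : G → ℂ) c) = S χ from rfl,
                hSconj, hSr, (hdd χ).1]
              push_cast
              ring
            · simp
    have h2 : ((((sing.card : ℝ) * q * g0 : ℝ)) : ℂ) =
        ((∑ χ : IrrCharacter G, if χ ∈ principalBlock M G then r χ ^ 3 / d χ else 0 : ℝ) : ℂ) := by
      rw [← hZG, Nat.cast_mul] at h1
      refine mul_left_cancel₀ hZne ?_
      simp only [Complex.ofReal_sum, apply_ite Complex.ofReal, Complex.ofReal_zero, Complex.ofReal_mul,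
        Complex.ofReal_natCast]
      linear_combination h1
    exact_mod_cast h2
  have hk1 : ∀ c ∈ C, ∃ k : ℕ, orderOf c = p ^ k := fun c hc => ⟨1, by rw [pow_one]; exact (hC c).1 hc⟩
  have hE2 : ∑ χ : IrrCharacter G, (if χ ∈ principalBlock M G then r χ ^ 2 else 0) = (q : ℝ) * N * g0 := by
    have h1 : ∑ χ : IrrCharacter G, (if χ ∈ principalBlock M G then S χ * conj (S χ) else 0) =
        (q : ℂ) * N * g0 := by
      calc ∑ χ : IrrCharacter G, (if χ ∈ principalBlock M G then S χ * conj (S χ) else 0)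
          = ∑ c ∈ C, ∑ c' ∈ C, ∑ χ : IrrCharacter G, (if χ ∈ principalBlock M G then
              (χ : G → ℂ) c * conj ((χ : G → ℂ) c') else 0) := by
            rw [Finset.sum_congr rfl fun c _ => Finset.sum_comm, Finset.sum_comm]
            refine Finset.sum_congr rfl fun χ _ => ?_
            split_ifs
            · simp only [hS, map_sum, Finset.sum_mul, Finset.mul_sum]; exact Finset.sum_comm
            · simp
        _ = ∑ c ∈ C, ∑ c' ∈ C, if IsConj c c' then (q : ℂ) else 0 := by
            refine Finset.sum_congr rfl fun c hc => Finset.sum_congr rfl fun c' hc' => ?_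
            split_ifs with hcc
            · obtain ⟨g, rfl⟩ := isConj_iff.1 hcc
              have ecl : ∀ χ : IrrCharacter G, (χ : G → ℂ) (g * c * g⁻¹) = (χ : G → ℂ) c :=
                fun χ => CfsgLib.Char.isClassFunction_of_isIrr χ.2 c g
              simp only [ecl]
              let _ := Fintype.ofFinite ↥(Subgroup.centralizer ({c} : Set G))
              have := CfsgLib.Blocks.sum_principal_section_complement (M := M) hM (hk1 c hc) (hcompl c hc)
                (y := (1 : ↥(Subgroup.centralizer ({c} : Set G)))) (by rw [orderOf_one]; exact hpp.not_dvd_one)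
              simp only [OneMemClass.coe_one, mul_one] at this
              rw [this, hcent c hc]
            · exact CfsgLib.CharBlocks.principal_column_ne hM (hk1 c hc) (hk1 c' hc') hcc
        _ = ∑ c ∈ C, (q : ℂ) * (g0 : ℂ) := by
            refine Finset.sum_congr rfl fun c hc => ?_
            rw [← Finset.sum_filter, Finset.sum_const, nsmul_eq_mul, mul_comm]
            congr 2
            have e : (C.filter fun c' => IsConj c c').card = Nat.card {c' : G // IsConj c c'} := by
              rw [Nat.card_eq_fintype_card, Fintype.card_subtype]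
              congr 1
              ext c'
              simp only [Finset.mem_filter, Finset.mem_univ, true_and, and_iff_right_iff_imp]
              rintro hh
              obtain ⟨g, rfl⟩ := isConj_iff.1 hh
              exact hCconj c hc g
            rw [e, CfsgLib.Char.card_isConj_eq_index, hg0, CfsgLib.Char.card_isConj_eq_index]
            refine Nat.eq_of_mul_eq_mul_right (Nat.card_pos (α := ↥(Subgroup.centralizer ({c} : Set G)))) ?_
            rw [Subgroup.index_mul_card, hcent c hc, Subgroup.index_mul_card]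
        _ = _ := by rw [Finset.sum_const, nsmul_eq_mul, ← hN]; ring
    simp only [hSr, Complex.conj_ofReal] at h1
    have h2 : ((∑ χ : IrrCharacter G, (if χ ∈ principalBlock M G then r χ ^ 2 else 0) : ℝ) : ℂ) =
        (((q : ℝ) * N * g0 : ℝ) : ℂ) := by
      simp only [Complex.ofReal_sum, apply_ite Complex.ofReal, Complex.ofReal_zero, Complex.ofReal_mul,
        Complex.ofReal_natCast, sq]
      exact h1
    exact_mod_cast h2
  have hE3 : ∑ χ : IrrCharacter G, (if χ ∈ principalBlock M G then r χ * d χ else 0) = 0 := by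
    have h1 : ∑ χ : IrrCharacter G, (if χ ∈ principalBlock M G then S χ * conj ((χ : G → ℂ) 1) else 0) = 0 := by
      calc ∑ χ : IrrCharacter G, (if χ ∈ principalBlock M G then S χ * conj ((χ : G → ℂ) 1) else 0)
          = ∑ c ∈ C, ∑ χ : IrrCharacter G, (if χ ∈ principalBlock M G then
              (χ : G → ℂ) c * conj ((χ : G → ℂ) 1) else 0) := by
            rw [Finset.sum_comm]
            refine Finset.sum_congr rfl fun χ _ => ?_
            split_ifs
            · simp only [hS, Finset.sum_mul]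
            · simp
        _ = 0 := Finset.sum_eq_zero fun c hc => CfsgLib.CharBlocks.principal_column_ne hM (hk1 c hc)
            ⟨0, by rw [orderOf_one, pow_zero]⟩ fun hh => by
              have h1 := (hC c).1 hc
              rw [show c = 1 from isConj_one_left.1 hh, orderOf_one] at h1
              exact hpp.one_lt.ne h1
    simp only [hSr, fun χ => (hdd χ).1, Complex.conj_ofReal] at h1
    have h2 : ((∑ χ : IrrCharacter G, (if χ ∈ principalBlock M G then r χ * d χ else 0) : ℝ) : ℂ) = ((0 : ℝ) : ℂ) := by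
      simp only [Complex.ofReal_sum, apply_ite Complex.ofReal, Complex.ofReal_zero, Complex.ofReal_mul]
      exact h1
    exact_mod_cast h2
  -- the bound
  set one : IrrCharacter G := CfsgLib.Char.irrOne with hone
  have hr1 : r one = N := by
    have e : S one = (N : ℂ) := by
      simp only [hS, hone, CfsgLib.Char.irrOne_apply, Finset.sum_const, nsmul_eq_mul, mul_one, hN]
    simp only [hr, e, Complex.natCast_re]
  have hd1 : d one = 1 := by simp [hd, hone, CfsgLib.Char.irrOne_apply]
  have h1mem : one ∈ principalBlock M G := CfsgLib.Blocks.irrOne_mem_principalBlock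
  set B := (Finset.univ.filter fun χ => χ ∈ principalBlock M G).erase one with hB
  have hsplitsum : ∀ F : IrrCharacter G → ℝ,
      ∑ χ : IrrCharacter G, (if χ ∈ principalBlock M G then F χ else 0) = F one + ∑ χ ∈ B, F χ := fun F => by
    rw [← Finset.sum_filter, hB, Finset.add_sum_erase _ _ (Finset.mem_filter.2 ⟨Finset.mem_univ _, h1mem⟩)]
  rw [hsplitsum, hr1, hd1] at hE1 hE3
  rw [hsplitsum, hr1] at hE2
  have hNR : (0 : ℝ) < N := by exact_mod_cast hNpos
  have hterm : ∀ χ ∈ B, r χ ^ 3 / d χ ≤ θ * N * r χ ^ 2 := by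
    intro χ hχ
    obtain ⟨hne, hmem⟩ := Finset.mem_erase.1 hχ
    have hd0 := (hdd χ).2
    rw [div_le_iff₀ hd0]
    rcases le_or_gt (r χ) 0 with hle | hgt
    · have : r χ ^ 3 ≤ 0 := by nlinarith [sq_nonneg (r χ)]
      have : 0 ≤ θ * N * r χ ^ 2 * d χ := mul_nonneg (mul_nonneg (mul_nonneg hθ hNR.le) (sq_nonneg _)) hd0.le
      linarith
    · have := hbound χ (Finset.mem_filter.1 hmem).2 hne
      replace this : r χ ≤ θ * N * d χ := by simpa [hr, hd, hS, hN] using this
      nlinarith [mul_le_mul_of_nonneg_left this (sq_nonneg (r χ))]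
  obtain ⟨χ₀, hχ₀, hneg⟩ : ∃ χ ∈ B, r χ < 0 := by
    by_contra hcon
    push Not at hcon
    have : 0 ≤ ∑ χ ∈ B, r χ * d χ := Finset.sum_nonneg fun χ hχ => mul_nonneg (hcon χ hχ) (hdd χ).2.le
    linarith
  have hlt : ∑ χ ∈ B, r χ ^ 3 / d χ < ∑ χ ∈ B, θ * N * r χ ^ 2 := by
    refine Finset.sum_lt_sum hterm ⟨χ₀, hχ₀, ?_⟩
    have h3 : r χ₀ ^ 3 / d χ₀ < 0 := div_neg_of_neg_of_pos (by nlinarith [mul_pos (neg_pos.2 hneg) (neg_pos.2 hneg)]) (hdd χ₀).2
    have : 0 ≤ θ * N * r χ₀ ^ 2 := mul_nonneg (mul_nonneg hθ hNR.le) (sq_nonneg _)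
    linarith
  rw [← Finset.mul_sum] at hlt
  have hQN : Q * N = (q : ℝ) * g0 := hQdef
  have hB2 : ∑ χ ∈ B, r χ ^ 2 = Q * N * N - (N : ℝ) ^ 2 := by
    rw [hQN]; linarith [hE2]
  rw [hB2] at hlt
  have hpR : (2 : ℝ) < p := by exact_mod_cast hp2
  have hT : ((p : ℝ) - 2) / ((p : ℝ) - 1) * (N * N) ≤ sing.card := by
    have e1 : (sing.card : ℝ) + regp.card = N * N := by exact_mod_cast hsplit
    have e2 : ((p : ℝ) - 1) * regp.card ≤ N * N := by
      have : (((p - 1) * regp.card : ℕ) : ℝ) ≤ ((N * N : ℕ) : ℝ) := by exact_mod_cast hregle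
      rw [Nat.cast_mul, Nat.cast_sub (by omega), Nat.cast_mul] at this
      simpa using this
    rw [div_mul_eq_mul_div, div_le_iff₀ (by linarith)]
    nlinarith
  have hQ0 : 0 ≤ Q := by
    by_contra hh
    have : Q * N < 0 := mul_neg_of_neg_of_pos (not_le.1 hh) hNR
    rw [hQN] at this
    have : (0 : ℝ) ≤ (q : ℝ) * g0 := by positivity
    linarith
  have e3 : (sing.card : ℝ) * q * g0 < N ^ 3 * (1 + θ * (Q - 1)) := by
    rw [hE1]
    have : (N : ℝ) ^ 3 / 1 = N ^ 3 := div_one _
    nlinarith [hlt]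
  have e4 : (N : ℝ) ^ 3 * (1 + θ * (Q - 1)) ≤ N ^ 3 * (Q * ((p : ℝ) - 2) / ((p : ℝ) - 1)) :=
    mul_le_mul_of_nonneg_left hQ (pow_nonneg hNR.le 3)
  have e5 : (N : ℝ) ^ 3 * (Q * ((p : ℝ) - 2) / ((p : ℝ) - 1)) ≤ (sing.card : ℝ) * (Q * N) := by
    have := mul_le_mul_of_nonneg_right hT (mul_nonneg hQ0 hNR.le)
    calc (N : ℝ) ^ 3 * (Q * ((p : ℝ) - 2) / ((p : ℝ) - 1)) = ((p : ℝ) - 2) / ((p : ℝ) - 1) * (N * N) * (Q * N) := by ring
      _ ≤ _ := this
  rw [hQN, ← mul_assoc] at e5
  linarith

end CfsgLib.Transfer.PairProducts
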